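import Groth.Agent.L19.OmegaSh.OmAff
import Groth.Agent.L21.Disc.OmegaStalk
import Groth.Agent.L22.SchemeDim

/-!
The map `Ω_X ⟶ π_* Ω_Y` of schemes over a field, on affine opens.
-/

set_option autoImplicit false
set_option backward.isDefEq.respectTransparency false
set_option backward.isDefEq.respectTransparency.types false
set_option linter.style.haveILetI false

universe u

open CategoryTheory CategoryTheory.Limits AlgebraicGeometry TopologicalSpace Opposite

noncomputable section

namespace Groth.L21.NodalExt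

open _root_.OmegaSh (dSect dOmega)

variable {k : Type u} [Field k] {X Y : Scheme.{u}} (q : X ⟶ Spec (CommRingCat.of k))

/-- The scalars of a scheme over a field. -/
def scal (U : X.Opens) : k →+* Γ(X, U) :=
  (q.appLE ⊤ U le_top).hom.comp (Scheme.ΓSpecIso (CommRingCat.of k)).inv.hom

variable [QuasiSeparated q]

/-- The derivation on sections. -/
def derK (U : X.Opens) :
    letI := (scal q U).toAlgebra
    letI : Module k Γ(Omega.sheaf q, U) := Module.compHom _ (scal q U)
    Derivation k Γ(X, U) Γ(Omega.sheaf q, U) :=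
  letI := (scal q U).toAlgebra
  letI : Module k Γ(Omega.sheaf q, U) := Module.compHom _ (scal q U)
  { toFun := fun a => dSect q U a
    map_add' := fun a b => _root_.OmegaSh.dSect_add q U a b
    map_smul' := fun c a => by
      show dSect q U (c • a) = scal q U c • dSect q U a
      rw [Algebra.smul_def, RingHom.algebraMap_toAlgebra, _root_.OmegaSh.dSect_mul,
        show dSect q U (scal q U c) = 0 from _root_.OmAff.dSect_appLE q ⊤ U le_top _, smul_zero, add_zero]
    map_one_eq_zero' := by
      show dSect q U 1 = 0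
      rw [← map_one (scal q U)]
      exact _root_.OmAff.dSect_appLE q ⊤ U le_top _
    leibniz' := fun a b => _root_.OmegaSh.dSect_mul q U a b }

/-- Differentials of the ring of sections are the sections of the sheaf. -/
def secMap (U : X.Opens) :
    letI := (scal q U).toAlgebra
    Ω[Γ(X, U)⁄k] →ₗ[Γ(X, U)] Γ(Omega.sheaf q, U) :=
  letI := (scal q U).toAlgebra
  letI : Module k Γ(Omega.sheaf q, U) := Module.compHom _ (scal q U)
  haveI : IsScalarTower k Γ(X, U) Γ(Omega.sheaf q, U) := IsScalarTower.of_algebraMap_smul fun _ _ => rfl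
  (derK q U).liftKaehlerDifferential

theorem secMap_D (U : X.Opens) (a : Γ(X, U)) :
    letI := (scal q U).toAlgebra
    secMap q U (KaehlerDifferential.D k Γ(X, U) a) = dSect q U a := by
  letI := (scal q U).toAlgebra
  letI : Module k Γ(Omega.sheaf q, U) := Module.compHom _ (scal q U)
  haveI : IsScalarTower k Γ(X, U) Γ(Omega.sheaf q, U) := IsScalarTower.of_algebraMap_smul fun _ _ => rfl
  exact Derivation.liftKaehlerDifferential_comp_D (derK q U) a

theorem bijective_secMap {U : X.Opens} (hU : IsAffineOpen U) : Function.Bijective (secMap q U) := by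
  letI := (scal q U).toAlgebra
  let R₀ := Γ(Spec (CommRingCat.of k), ⊤)
  letI : Algebra R₀ Γ(X, U) := (q.appLE ⊤ U le_top).hom.toAlgebra
  letI : Algebra k R₀ := (Scheme.ΓSpecIso (CommRingCat.of k)).inv.hom.toAlgebra
  haveI : IsScalarTower k R₀ Γ(X, U) := IsScalarTower.of_algebraMap_eq fun _ => rfl
  haveI : Algebra.FormallyUnramified k R₀ :=
    Algebra.FormallyUnramified.of_surjective (Algebra.ofId k R₀)
      (Scheme.ΓSpecIso (CommRingCat.of k)).commRingCatIsoToRingEquiv.symm.surjective
  haveI := Groth.L19.OmegaSh.isIso_toSect q ⟨U, hU⟩ ⟨⊤, isAffineOpen_top _⟩ le_top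
  let T : Ω[Γ(X, U)⁄R₀] →ₗ[Γ(X, U)] Γ(Omega.sheaf q, U) := (_root_.OmAff.toSect q ⊤ U le_top).hom
  have hT : Function.Bijective T := ConcreteCategory.bijective_of_isIso (_root_.OmAff.toSect q ⊤ U le_top)
  have hmap := Groth.L21.Disc.bijective_map_of_unramified (R := k) (A := R₀) (O := Γ(X, U))
  have key : secMap q U = T ∘ₗ KaehlerDifferential.map k R₀ Γ(X, U) Γ(X, U) := by
    refine LinearMap.ext fun z => ?_
    have hz : z ∈ Submodule.span Γ(X, U) (Set.range (KaehlerDifferential.D k Γ(X, U))) := by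
      rw [KaehlerDifferential.span_range_derivation]; trivial
    induction hz using Submodule.span_induction with
    | mem z hz =>
      obtain ⟨a, rfl⟩ := hz
      rw [secMap_D, LinearMap.comp_apply, KaehlerDifferential.map_D]
      exact (_root_.OmAff.toSect_d q ⊤ U le_top a).symm
    | zero => rw [map_zero, map_zero]
    | add z w _ _ hz hw => rw [map_add, map_add, hz, hw]
    | smul b z _ hz => rw [map_smul, map_smul, hz]
  rw [key]
  exact hT.comp hmap

variable (π : Y ⟶ X) [QuasiSeparated (π ≫ q)]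

/-- The map on differentials induced by a morphism over the base. -/
theorem exists_beta :
    ∃ β : Omega.sheaf q ⟶ (Scheme.Modules.pushforward π).obj (Omega.sheaf (π ≫ q)),
      ∀ (V : X.Opens) (a : Γ(X, V)), β.app V (dSect q V a) = dSect (π ≫ q) (π ⁻¹ᵁ V) (π.app V a) := by
  obtain ⟨β, hβ, -⟩ := Groth.L19.OmegaSh.isUniversal_dOmega (f := q) _
    (Groth.L19.OmegaSh.pushDer π (dOmega (π ≫ q)))
  exact ⟨β, fun V a => congrArg (fun E : _root_.OmegaSh.Der q _ => E.app V a) hβ⟩

variable {q π} {β : Omega.sheaf q ⟶ (Scheme.Modules.pushforward π).obj (Omega.sheaf (π ≫ q))}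

/-- On sections the map is the functoriality of differentials. -/
theorem beta_secMap (hβ : ∀ (V : X.Opens) (a : Γ(X, V)),
      β.app V (dSect q V a) = dSect (π ≫ q) (π ⁻¹ᵁ V) (π.app V a)) (V : X.Opens) :
    letI := (scal q V).toAlgebra
    letI := (scal (π ≫ q) (π ⁻¹ᵁ V)).toAlgebra
    letI := (π.app V).hom.toAlgebra
    ∀ [IsScalarTower k Γ(X, V) Γ(Y, π ⁻¹ᵁ V)] (z : Ω[Γ(X, V)⁄k]),
      β.app V (secMap q V z) =
        secMap (π ≫ q) (π ⁻¹ᵁ V) (KaehlerDifferential.map k k Γ(X, V) Γ(Y, π ⁻¹ᵁ V) z) := by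
  letI := (scal q V).toAlgebra
  letI := (scal (π ≫ q) (π ⁻¹ᵁ V)).toAlgebra
  letI := (π.app V).hom.toAlgebra
  intro _ z
  have hz : z ∈ Submodule.span Γ(X, V) (Set.range (KaehlerDifferential.D k Γ(X, V))) := by
    rw [KaehlerDifferential.span_range_derivation]; trivial
  induction hz using Submodule.span_induction with
  | mem z hz =>
    obtain ⟨a, rfl⟩ := hz
    rw [secMap_D, KaehlerDifferential.map_D, secMap_D, hβ]
    rfl
  | zero => simp only [map_zero]
  | add z w _ _ hz hw => simp only [map_add, hz, hw]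
  | smul b z _ hz =>
    rw [map_smul, Scheme.Modules.Hom.app_smul, hz, map_smul, ← algebraMap_smul Γ(Y, π ⁻¹ᵁ V) b
      (KaehlerDifferential.map k k Γ(X, V) Γ(Y, π ⁻¹ᵁ V) z), map_smul]
    rfl

theorem isScalarTower_scal (q : X ⟶ Spec (CommRingCat.of k)) (π : Y ⟶ X) (V : X.Opens) :
    letI := (scal q V).toAlgebra
    letI := (scal (π ≫ q) (π ⁻¹ᵁ V)).toAlgebra
    letI := (π.app V).hom.toAlgebra
    IsScalarTower k Γ(X, V) Γ(Y, π ⁻¹ᵁ V) := by
  letI := (scal q V).toAlgebra
  letI := (scal (π ≫ q) (π ⁻¹ᵁ V)).toAlgebra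
  letI := (π.app V).hom.toAlgebra
  refine IsScalarTower.of_algebraMap_eq fun c => ?_
  show (π ≫ q).appLE ⊤ (π ⁻¹ᵁ V) le_top _ = π.app V (q.appLE ⊤ V le_top _)
  simp only [Scheme.Hom.app_eq_appLE]
  rw [← CommRingCat.comp_apply (q.appLE ⊤ V le_top), Scheme.Hom.appLE_comp_appLE]

end Groth.L21.NodalExt
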