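import Groth.Agent.L21.NodalExt.Stalk
import Groth.Agent.L21.CurveRD.Identify
import Groth.Agent.L21.CurveDual.Exists
import Groth.Agent.L21.CurveDual.Euler
import Groth.Agent.L21.CurveDual.CM
import Groth.Agent.L21.CurveDual.Reduced
import Groth.Agent.L21.NormRed.Nodal
import Groth.Agent.L21.NormRed.Euler
import Groth.Agent.L21.RR.BirationalGenus
import Groth.Agent.L21.RedCurve.Minimal
import Groth.Agent.L22.CurveDeg.Devissage
import Groth.Agent.L05.HypBertini.RelDim
import Groth.Agent.L05.PtSeq.DomLocal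
import Groth.Agent.L07.PrinParts.Mod
import Groth.Agent.L04.CMLoc
import Mathlib.RingTheory.KrullDimension.PID

/-!
`χ(Ω_X) = -χ(O_X)` for a nodal curve and the degree of twists of `Ω_X`.
-/

set_option autoImplicit false
set_option backward.isDefEq.respectTransparency false
set_option backward.isDefEq.respectTransparency.types false
set_option linter.style.haveILetI false
set_option maxHeartbeats 800000

universe u

open CategoryTheory CategoryTheory.Limits AlgebraicGeometry TopologicalSpace Opposite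
attribute [local instance] HasDerivedCategory.standard Curv2.resAlgebra

noncomputable section

namespace Groth.L21.NodalExt

open Groth.L21.TFNodal (Setting)
open Groth.L21.RR (SuppClosed h)
open Groth.L22.CurveDeg (phi)
open Groth.L16.CohSupport (len)

/-- The differentials of a smooth proper curve are dualizing. -/
theorem exists_iso_omega_dual (k : Type u) [Field k] {Y : Scheme.{u}} [Y.Over (Spec (CommRingCat.of k))]
    [IsProper (Y ↘ Spec (CommRingCat.of k))] [SmoothOfRelativeDimension 1 (Y ↘ Spec (CommRingCat.of k))]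
    (hd : topologicalKrullDim Y ≤ 1) :
    ∃ (w : Y.Modules) (t : Coh.HH Y w 1 →ₗ[k] k), Canon.IsRDualOver k Y 1 w t ∧
      Nonempty (w ≅ Omega.sheaf (Y ↘ Spec (CommRingCat.of k))) := by
  haveI := Groth.L21.RR.isNoetherian_of_proper (X := Y) k
  haveI : Y.IsSeparated := ⟨by rw [← Limits.terminal.comp_from (Y ↘ Spec (CommRingCat.of k))]; infer_instance⟩
  let f := Y ↘ Spec (CommRingCat.of k)
  haveI : SmoothOfRelativeDimension 1 f := ‹_›
  haveI : Smooth f := SmoothOfRelativeDimension.smooth 1 f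
  haveI := Groth.L29.DC.RpushQC.hasRpush f
  have hq : DCoh.RpushPreservesQCoh f := fun K hK => Groth.L29.DC.RpushQC.isQCohD_Rpush _ K hK
  haveI : DCoh.HasShriek f hq := Groth.Agent.S1766.result Y (Spec (CommRingCat.of k)) f hq
  let OY : DCoh.DQCoh (Spec (CommRingCat.of k)) :=
    ⟨DCoh.inD _ (Coh.structureModule _), Groth.L29.RelPC.isQCohD_unit _⟩
  obtain ⟨t, ht⟩ := Groth.L21.CurveDual.exists_isRDual k hd hq OY ⟨Iso.refl _⟩
  obtain ⟨e⟩ := Groth.L21.CurveRD.nonempty_iso_omega_shift f (DCoh.shriekAdj f hq) OY ⟨Iso.refl _⟩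
  obtain ⟨s⟩ := Groth.L21.CurveRD.nonempty_single_shift (Omega.sheaf f) (-1)
  let eΩ : DCoh.dualizingMod f hq OY 1 ≅ Omega.sheaf f :=
    (DerivedCategory.homologyFunctor Y.Modules (-1)).mapIso (e ≪≫ eqToIso (by norm_num) ≪≫ s.symm) ≪≫
      (DerivedCategory.singleFunctorCompHomologyFunctorIso Y.Modules (-1)).app _
  exact ⟨_, t, ht, ⟨eΩ⟩⟩

/-- `χ(Ω) = -χ(O)` on a smooth proper curve. -/
theorem euler_omega_smooth (k : Type u) [Field k] {Y : Scheme.{u}} [Y.Over (Spec (CommRingCat.of k))]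
    [IsProper (Y ↘ Spec (CommRingCat.of k))] [SmoothOfRelativeDimension 1 (Y ↘ Spec (CommRingCat.of k))]
    (hd : topologicalKrullDim Y ≤ 1)
    (hdim : ∀ y : Y, IsClosed ({y} : Set Y) → ringKrullDim (Y.presheaf.stalk y) = (1 : ℕ)) :
    Curv2.euler k Y (Omega.sheaf (Y ↘ Spec (CommRingCat.of k))) = -Curv2.euler k Y (Coh.structureModule Y) := by
  obtain ⟨w, t, ht, ⟨eΩ⟩⟩ := exists_iso_omega_dual k hd (Y := Y)
  rw [← Groth.L03.Euler.euler_iso eΩ]
  refine Groth.L21.CurveDual.euler_eq_neg hd ht fun y hy => ?_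
  haveI : Smooth (Y ↘ Spec (CommRingCat.of k)) := SmoothOfRelativeDimension.smooth 1 _
  haveI : IsRegularLocalRing (Y.presheaf.stalk y) :=
    Groth.L08.Cube.isRegularLocalRing_of_smooth (Y ↘ Spec (CommRingCat.of k)) y
  exact Groth.L21.CurveDual.not_assPoint_of_CM (Groth.L04.isCohenMacaulayLocalRing_of_regular _) (hdim y hy)

variable {k : Type u} [Field k] {X Y : Scheme.{u}} [X.Over (Spec (CommRingCat.of k))] {π : Y ⟶ X} {U : X.Opens}

/-- Closed points of the normalisation have proper generisations. -/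
theorem gen_normalization (h : Setting k X Y π U)
    (hgen : ∀ x : X, ∃ w, ¬ IsClosed ({w} : Set X) ∧ w ⤳ x) (y : Y) (hy : IsClosed ({y} : Set Y)) :
    ∃ w, w ≠ y ∧ w ⤳ y := by
  haveI := h.finite; haveI := h.noetherian; haveI := h.iso
  haveI : IsLocallyNoetherian Y := LocallyOfFiniteType.isLocallyNoetherian π
  by_contra hh
  push Not at hh
  have hg : ∀ w, w ⤳ y → w = y := fun w hw => by
    by_contra hne
    exact hh w hne hw
  obtain ⟨y', hy', hyU⟩ := h.hUd'.inter_open_nonempty _ (Groth.L20.QfCurve.isOpen_singleton hy hg) ⟨y, rfl⟩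
  rw [Set.mem_singleton_iff] at hy'
  subst hy'
  have hxc : IsClosed ({π y'} : Set X) := by
    rw [← Set.image_singleton (f := fun z : Y => π z)]
    exact π.isClosedMap _ hy
  obtain ⟨w, hw, hwx⟩ := hgen (π y')
  have hwU : w ∈ U := hwx.mem_open U.2 hyU
  obtain ⟨a, ha⟩ := (π ∣_ U).homeomorph.surjective ⟨w, hwU⟩
  have hres : ∀ b : ↥(π ⁻¹ᵁ U), ((π ∣_ U).homeomorph b).1 = π b.1 := fun b =>
    congr($(morphismRestrict_ι π U) b)
  have hπa : π a.1 = w := (hres a).symm.trans (congrArg Subtype.val ha)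
  have hsp : a ⤳ (⟨y', hyU⟩ : ↥(π ⁻¹ᵁ U)) := by
    refine ((π ∣_ U).homeomorph.isEmbedding.isInducing.specializes_iff).1 ?_
    rw [subtype_specializes_iff, hres, hres, hπa]
    exact hwx
  have h2 : a.1 = y' := hg _ ((subtype_specializes_iff _ _).1 hsp)
  rw [h2] at hπa
  exact hw (hπa ▸ hxc)

/-- The closed local rings of the normalisation have dimension one. -/
theorem dim_stalk (h : Setting k X Y π U) (hdY : topologicalKrullDim Y ≤ 1)
    (hgen : ∀ x : X, ∃ w, ¬ IsClosed ({w} : Set X) ∧ w ⤳ x) (y : Y) (hy : IsClosed ({y} : Set Y)) :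
    ringKrullDim (Y.presheaf.stalk y) = (1 : ℕ) := by
  haveI := h.finite; haveI := h.noetherian; haveI := h.iso
  haveI : IsLocallyNoetherian Y := LocallyOfFiniteType.isLocallyNoetherian π
  have hgenY := gen_normalization h hgen
  have hcl : Groth.L21.Nodal.CurveLike Y :=
    ⟨fun a b c hab hbc => Groth.L21.RR.Top.spec_of_dim_le_one (X := Y.toTopCat) hdY a b c hab hbc, hgenY⟩
  haveI := (h.hnorm y).1
  haveI := (pid_regular_stalk h.hnorm hdY y).1
  rw [Nat.cast_one]
  exact IsPrincipalIdealRing.ringKrullDim_eq_one _ (Groth.L21.Nodal.not_isField_stalk_of_curveLike hcl y hy)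

variable [IsAlgClosed k] [IsProper (X ↘ Spec (CommRingCat.of k))] [ConnectedSpace X]

set_option maxHeartbeats 1600000 in
/-- `χ(Ω) = -χ(O)` on a nodal curve, and twisting `Ω` by an invertible module adds its degree. -/
theorem euler_omega_nodal (hdim : topologicalKrullDim X = 1) (hnod : Curv2.AtWorstNodal k X) :
    Curv2.euler k X (Omega.sheaf (X ↘ Spec (CommRingCat.of k))) = -Curv2.euler k X (Coh.structureModule X) ∧
      ∀ M : X.Modules, PicF.IsInvertible M →
        Curv2.euler k X (CohB1.tensorMod M (Omega.sheaf (X ↘ Spec (CommRingCat.of k)))) =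
          -Curv2.euler k X (Coh.structureModule X) + Curv2.deg k X M 1 := by
  classical
  obtain ⟨Y, π, U, hS, hsm, hdY⟩ := exists_setting k hdim hnod
  haveI := hS.finite; haveI := hS.reduced; haveI := hS.noetherian; haveI := hS.iso
  letI : Y.Over (Spec (CommRingCat.of k)) := ⟨π ≫ (X ↘ Spec (CommRingCat.of k))⟩
  haveI : IsProper (Y ↘ Spec (CommRingCat.of k)) :=
    inferInstanceAs (IsProper (π ≫ (X ↘ Spec (CommRingCat.of k))))
  haveI : Smooth (π ≫ (X ↘ Spec (CommRingCat.of k))) := hsm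
  haveI := Groth.L21.RR.isNoetherian_of_proper (X := X) k
  haveI := Groth.L21.RR.isNoetherian_of_proper (X := Y) k
  haveI : X.IsSeparated := ⟨by rw [← Limits.terminal.comp_from (X ↘ Spec (CommRingCat.of k))]; infer_instance⟩
  have hd : topologicalKrullDim X ≤ 1 := hdim.le
  have hgen : ∀ x : X, ∃ w, ¬ IsClosed ({w} : Set X) ∧ w ⤳ x :=
    Groth.L21.CurveDual.exists_nonclosed_gen hdim
  have hdimY := dim_stalk hS hdY hgen
  haveI hsr : SmoothOfRelativeDimension 1 (π ≫ (X ↘ Spec (CommRingCat.of k))) :=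
    Groth.L05.HypBertini.smoothOfRelativeDimension_of_stalks (π ≫ (X ↘ Spec (CommRingCat.of k))) 1 hdimY
  haveI : SmoothOfRelativeDimension 1 (Y ↘ Spec (CommRingCat.of k)) := hsr
  let ΩY := Omega.sheaf (π ≫ (X ↘ Spec (CommRingCat.of k)))
  let ΩX := Omega.sheaf (X ↘ Spec (CommRingCat.of k))
  obtain ⟨β, hβ⟩ := exists_beta (X ↘ Spec (CommRingCat.of k)) π
  have hX : Coh.IsCoh ΩX := Groth.L15.OmegaCoh.isCoh_omega _
  have hYc : Coh.IsCoh ΩY := Groth.L15.OmegaCoh.isCoh_omega _
  have hP : Coh.IsCoh ((Scheme.Modules.pushforward π).obj ΩY) :=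
    Groth.L07.PrinParts.isCoh_pushforward_finite π hYc
  have hpt : ∀ x : X, x ∈ U ∨ Curv2.IsNode k X x := fun x => by
    by_cases hn : Curv2.IsNode k X x
    · exact Or.inr hn
    · exact Or.inl ((hS.hU x).2 hn)
  have hsurj : ∀ x : X, Function.Surjective ((Groth.L00.Stk.F X x).map β).hom := fun x => by
    rcases hpt x with hx | hx
    · exact (bijective_stalk_of_mem hβ hS hx).2
    · exact (stalk_at_node hβ hS hdY hx).1
  haveI : Epi β := (Groth.L21.Mod.epi_iff_stalk_surjective β).2 hsurj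
  let K := kernel β
  have hK : Coh.IsCoh K := (Groth.L16.CohKernel.isCoh_kernel_cokernel hX hP β).1
  have hK0 : ∀ x ∈ U, Subsingleton (K.presheaf.stalk x) := fun x hx =>
    Groth.L21.RedCurve.subsingleton_stalk_kernel β (bijective_stalk_of_mem hβ hS hx).1
  have hKs : SuppClosed K := fun x hx => hK0 x ((hS.hU x).2 fun hn => hx hn.1)
  have hE : (ShortComplex.mk (kernel.ι β) β (kernel.condition β)).ShortExact :=
    { exact := ShortComplex.exact_kernel β
      mono_f := inferInstanceAs (Mono (kernel.ι β))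
      epi_g := inferInstanceAs (Epi β) }
  -- nodes
  obtain ⟨F, hFc, hF0, he⟩ := Groth.L21.NormRed.euler_formula k π rfl hd hS.hnorm hS.hUd hS.hUd'
  have hnode : ∀ x, Curv2.IsNode k X x → x ∈ F := fun x hx => by
    by_contra hxF
    have := hF0 x hx.1 hxF
    rw [Groth.L21.NormRed.deltaInv_of_isNode k hS.hdim hx] at this
    exact one_ne_zero this
  let N := F.filter (Curv2.IsNode k X)
  have hN : ∀ x, x ∈ N ↔ Curv2.IsNode k X x := fun x =>
    ⟨fun hx => (Finset.mem_filter.1 hx).2, fun hx => Finset.mem_filter.2 ⟨hnode x hx, hx⟩⟩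
  have hsum : ∑ x ∈ F, ((Module.finrank k (X.residueField x) : ℤ) *
      ((Curv2.deltaInv (X.presheaf.stalk x)).toNat : ℤ)) = N.card := by
    rw [Finset.card_filter, Nat.cast_sum]
    refine Finset.sum_congr rfl fun x hx => ?_
    rw [Groth.L21.RR.finrank_residueField_eq_one k (hFc x hx)]
    by_cases hn : Curv2.IsNode k X x
    · simp [hn, Groth.L21.NormRed.deltaInv_of_isNode k hS.hdim hn]
    · simp [hn, Groth.L21.NormRed.deltaInv_eq_zero_of_not_isNode k hnod (hFc x hx) hn]
  have hKh : h k 0 K = N.card := by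
    rw [Groth.L21.Disc.h0_eq_sum_length k hK N (fun x hx => ((hN x).1 hx).1)
      (fun x hx => hK0 x ((hS.hU x).2 fun hn => hx ((hN x).2 hn))), Finset.card_eq_sum_ones]
    refine Finset.sum_congr rfl fun x hx => ?_
    have hn := (hN x).1 hx
    change (Module.length (X.presheaf.stalk x) ((Groth.L00.Stk.F X x).obj (kernel β))).toNat * _ = _
    rw [((PreservesKernel.iso (Groth.L00.Stk.F X x) β) ≪≫
      ModuleCat.kernelIsoKer ((Groth.L00.Stk.F X x).map β)).toLinearEquiv.length_eq,
      (stalk_at_node hβ hS hdY hn).2, Groth.L21.RR.finrank_residueField_eq_one k hn.1]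
    rfl
  have hYΩ : Curv2.euler k Y ΩY = -Curv2.euler k Y (Coh.structureModule Y) :=
    euler_omega_smooth k hdY hdimY
  have hpush : Curv2.euler k X ((Scheme.Modules.pushforward π).obj ΩY) = Curv2.euler k Y ΩY :=
    Groth.L03.Euler.euler_push π ΩY hYc.1 rfl
  rw [hsum] at he
  have hχ : Curv2.euler k X ΩX = -Curv2.euler k X (Coh.structureModule X) := by
    have h1 := Groth.L21.RR.euler_add k hd hE hK hX hP
    dsimp only at h1
    rw [Groth.L21.RR.euler_eq_h0_of_suppClosed k hKs, hKh, hpush, hYΩ, he] at h1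
    rw [h1]; ring
  refine ⟨hχ, fun M hM => ?_⟩
  have hM1 := Groth.L12.FinCov.isFinLocFreeOfRank_one_of_isInvertible hM
  have hM' := Groth.L12.FinCov.isFinLocFreeOfRank_one_of_isInvertible
    (Groth.L18.Ample.isInvertible_pullback π hM)
  have hΩY := Groth.L12.FinCov.isFinLocFreeOfRank_one_of_isInvertible
    (Groth.L21.CurveRD.isInvertible_omega (π ≫ (X ↘ Spec (CommRingCat.of k))))
  have hO := Groth.L16.CohClosedPush.isCoh_structure (X := X)
  have hOY := Groth.L16.CohClosedPush.isCoh_structure (X := Y)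
  have hPO := Groth.L21.RR.isCoh_push_structure (X := X) π
  haveI : Mono (ClSub.unitToPush π) := Groth.L21.NormRed.mono_unitToPush π hS.hUd
  haveI : IsClosedImmersion (π ∣_ U) := inferInstance
  have hQs := Groth.L21.RR.suppClosed_cokernel_unitToPush (f := π) hd hS.hUd
  have hQc := (Groth.L16.CohKernel.isCoh_kernel_cokernel hO hPO (ClSub.unitToPush π)).2
  have hU2 : (ShortComplex.mk (ClSub.unitToPush π) (cokernel.π _) (cokernel.condition _)).ShortExact :=
    { exact := ShortComplex.exact_cokernel _ }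
  have p1 := Groth.L22.CurveDeg.phi_add k hM1 hE hK hX hP
  have p2 := Groth.L22.CurveDeg.phi_add k hM1 hU2 hO hPO hQc
  dsimp only at p1 p2
  rw [Groth.L22.CurveDeg.phi_eq_zero k hM1 hK hKs,
    Groth.L22.CurveDeg.phi_push k π rfl hM1 ΩY hYc.1] at p1
  rw [Groth.L22.CurveDeg.phi_eq_zero k hM1 hQc hQs,
    show phi k M 1 ((Scheme.Modules.pushforward π).obj (Coh.structureModule Y)) = _ from
      Groth.L22.CurveDeg.phi_push k π rfl hM1 (Coh.structureModule Y) hOY.1,
    Groth.L22.CurveDeg.phi_structure] at p2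
  have p3 : phi k ((Scheme.Modules.pullback π).obj M) 1 ΩY =
      phi k ((Scheme.Modules.pullback π).obj M) 1 (Coh.structureModule Y) :=
    Groth.L22.CurveDeg.phi_eq_of_len k hdY hM' hYc hOY fun y _ => by
      obtain ⟨a⟩ := Groth.L22.CurveDeg.nonempty_stalk_equiv hΩY y
      obtain ⟨b⟩ := Groth.L22.CurveDeg.nonempty_stalk_equiv (E := Coh.structureModule Y)
        Groth.L19.ProjBdl.isFinLocFreeOfRank_one_structureModule y
      exact (a.symm.trans b).length_eq
  simp only [Groth.L22.CurveDeg.phi_structure, zero_add, add_zero] at p1 p2 p3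
  have p4 : phi k M 1 ΩX = Curv2.deg k X M 1 := (p1.trans p3).trans p2
  rw [phi, hχ] at p4
  push_cast at p4
  linarith

end Groth.L21.NodalExt
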