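import Groth.Agent.L21.CurveDual.Twist
import Groth.Agent.L22.PDual.TwistExt
import Groth.Agent.L28.UnivLift.Basic
import Groth.Agent.L08.Cube.Inverse

/-!
`Ext^i(F, O) = Ext^i(F ⊗ ω, ω)` for invertible `ω`, linearly.
-/

set_option autoImplicit false
set_option backward.isDefEq.respectTransparency false
set_option backward.isDefEq.respectTransparency.types false
set_option linter.style.haveILetI false

universe u

open CategoryTheory CategoryTheory.Limits CategoryTheory.Abelian AlgebraicGeometry

noncomputable section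

namespace Groth.L21.NodalExt

open Groth.L00.Tensor (tensorRightF tensorUnitLeft tensorComm)

variable (k : Type u) [Field k] {X : Scheme.{u}} [X.Over (Spec (CommRingCat.of k))]

/-- Twisting by an invertible module is bijective on extensions. -/
theorem nonempty_ext_twist [HasExt.{u} X.Modules] {w : X.Modules} (hw : PicF.IsInvertible w) (F G : X.Modules)
    (i : ℕ) : Nonempty (Ext F G i ≃ₗ[k] Ext (CohB1.tensorMod F w) (CohB1.tensorMod G w) i) := by
  haveI := Groth.L00.Tensor.grothendieckAbelian_modules X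
  obtain ⟨w', -, ⟨e⟩⟩ := Groth.L08.Cube.exists_inverse hw
  haveI := Groth.L22.PDual.isEquivalence_tensorRightF e
  let T : X.Modules ⥤ X.Modules := tensorRightF w
  haveI : T.IsEquivalence := ‹_›
  haveI : T.Additive := Functor.additive_of_preserves_binary_products _
  haveI : T.Linear k := ⟨fun f r => Groth.L21.CurveDual.twist_map_smul k w r f⟩
  have hb := Groth.L28.UnivLift.bijective_mapExactFunctor.{u, u} T F (fun I hI n => by
    haveI : Injective (T.obj I) := Adjunction.map_injective T.asEquivalence.symm.toAdjunction I hI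
    exact subsingleton_of_forall_eq 0 Ext.eq_zero_of_injective) i G
  exact ⟨LinearEquiv.ofBijective (T.mapExtLinearMap k F G i) hb⟩

variable {k}

/-- Extensions along isomorphisms in both variables. -/
theorem nonempty_ext_congr [HasExt.{u} X.Modules] {F F' G G' : X.Modules} (e : F ≅ F') (e' : G ≅ G') (i : ℕ) :
    Nonempty (Ext F G i ≃ₗ[k] Ext F' G' i) := by
  let f : Ext F G i →ₗ[k] Ext F' G' i :=
    (Ext.postcompOfLinear (Ext.mk₀ e'.hom) k F' (add_zero i)).comp
      (Ext.precompOfLinear (Ext.mk₀ e.inv) k G (zero_add i))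
  let g : Ext F' G' i →ₗ[k] Ext F G i :=
    (Ext.postcompOfLinear (Ext.mk₀ e'.inv) k F (add_zero i)).comp
      (Ext.precompOfLinear (Ext.mk₀ e.hom) k G' (zero_add i))
  exact ⟨LinearEquiv.ofLinear f g (LinearMap.ext fun z => by simp [f, g, Ext.comp_assoc_of_second_deg_zero, ← Ext.comp_assoc_of_third_deg_zero, Ext.mk₀_comp_mk₀_assoc, Ext.mk₀_comp_mk₀])
    (LinearMap.ext fun z => by simp [f, g, Ext.comp_assoc_of_second_deg_zero, ← Ext.comp_assoc_of_third_deg_zero, Ext.mk₀_comp_mk₀_assoc, Ext.mk₀_comp_mk₀])⟩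

/-- The dualised form. -/
theorem nonempty_ext_structure [HasExt.{u} X.Modules] {w : X.Modules} (hw : PicF.IsInvertible w) {F G : X.Modules}
    (e : CohB1.tensorMod F w ≅ G) (i : ℕ) :
    Nonempty (Ext F (Coh.structureModule X) i ≃ₗ[k] Ext G w i) := by
  obtain ⟨a⟩ := nonempty_ext_twist k hw F (Coh.structureModule X) i
  obtain ⟨b⟩ := nonempty_ext_congr (k := k) e (tensorUnitLeft w) i
  exact ⟨a.trans b⟩

end Groth.L21.NodalExt
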