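import Groth.Agent.L21.NodalExt.EulerOmega
import Groth.Agent.L21.NodalExt.Twist
import Groth.Agent.L21.CurveAdj.Pointed
import Groth.Agent.L21.CurveAdj.Nodal
import Groth.Agent.L21.ConnFam.DimOne
import Groth.Agent.L22.VeryAmple.Immersion
import Groth.Agent.L22.CurveDeg.TensorDeg
import Groth.Agent.S15517
import Groth.Agent.S1551

/-!
`Ext^i(Ω(D), O)` on a pointed nodal curve.
-/

set_option autoImplicit false
set_option backward.isDefEq.respectTransparency false
set_option backward.isDefEq.respectTransparency.types false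
set_option linter.style.haveILetI false
set_option maxHeartbeats 800000

universe u

open CategoryTheory CategoryTheory.Limits CategoryTheory.Abelian AlgebraicGeometry TopologicalSpace Opposite

noncomputable section

namespace Groth.L21.NodalExt

open Groth.L21.RR (h)
open Groth.L00.Tensor (tensorAssoc tensorComm tensorIso)

variable {k : Type u} [Field k] [IsAlgClosed k] {X : Scheme.{u}} [X.Over (Spec (CommRingCat.of k))]
  [IsProper (X ↘ Spec (CommRingCat.of k))] [ConnectedSpace X]

/-- A reduced curve is Cohen–Macaulay at its closed points. -/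
theorem isCM_stalk (k : Type u) [Field k] {X : Scheme.{u}} [X.Over (Spec (CommRingCat.of k))]
    [IsProper (X ↘ Spec (CommRingCat.of k))] [AlgebraicGeometry.IsReduced X] (hd : topologicalKrullDim X ≤ 1) (x : X) :
    LocCoh.IsCohenMacaulayLocalRing (X.presheaf.stalk x) := by
  haveI := Groth.L21.RR.isNoetherian_of_proper (X := X) k
  have hd' : ringKrullDim (X.presheaf.stalk x) ≤ 1 := (Groth.L15.CohFlat.ringKrullDim_stalk_le x).trans hd
  haveI : _root_.IsReduced (X.presheaf.stalk x) := inferInstance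
  by_cases hf : IsField (X.presheaf.stalk x)
  · exact L02.CMMor.cm_of_dim_le_zero (ringKrullDim_eq_zero_of_isField hf).le
  · refine L02.CMMor.cm_mk (Groth.L04.isCohenMacaulayModule_iff_supportDim_le.mpr ?_)
    rw [Module.supportDim_self_eq_ringKrullDim]
    refine hd'.trans ((WithBot.coe_le_coe (a := (1 : ℕ∞))).mpr ?_)
    exact Order.one_le_iff_pos.2 (pos_iff_ne_zero.2 fun h0 => hf ((Groth.Agent.S5755.result _).1 h0))

/-- A proper curve is projective. -/
theorem exists_closedImmersion_proper (hd : topologicalKrullDim X ≤ 1) :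
    ∃ (N : ℕ) (ι : X ⟶ CohB1.ProjSpace N k), IsClosedImmersion ι ∧
      ι ≫ CohB1.ProjSpace.toSpec N k = X ↘ Spec (CommRingCat.of k) := by
  haveI := Groth.L21.RR.isNoetherian_of_proper (X := X) k
  haveI : X.IsSeparated := ⟨by rw [← Limits.terminal.comp_from (X ↘ Spec (CommRingCat.of k))]; infer_instance⟩
  obtain ⟨L, hL⟩ := Groth.Agent.S1551.aux X hd
  obtain ⟨-, -, n, r, hr, himm, -⟩ :=
    Groth.L22.VeryAmple.exists_immersion_of_isAmple (X ↘ Spec (CommRingCat.of k)) hL
  haveI := himm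
  haveI : IsProper (r ≫ Groth.L18.PUP.pr n k) := hr.symm ▸ inferInstance
  haveI : IsProper (Groth.L18.PUP.pr n k) := Groth.L22.PDual.proper n k
  haveI : IsProper r := IsProper.of_comp r (Groth.L18.PUP.pr n k)
  exact ⟨n, r, IsClosedImmersion.of_isPreimmersion r r.isClosedMap.isClosed_range, hr⟩

set_option maxHeartbeats 3200000 in
/-- The Euler characteristic of `RHom(Ω(D), O)` and the vanishing of `Ext²`. -/
theorem ext_twisted_omega (hdim : topologicalKrullDim X = 1) (hnod : Curv2.AtWorstNodal k X)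
    {D : Set X} (hDcl : IsClosed D) (hDfin : D.Finite) (hpts : ∀ x ∈ D, IsClosed ({x} : Set X)) {L : X.Modules}
    (hL : ClSub.IsInverseOf L (ClSub.idealMod (Scheme.IdealSheafData.vanishingIdeal ⟨D, hDcl⟩)))
    [HasExt.{u} X.Modules] :
    (Module.finrank k (Ext (CohB1.tensorMod (Omega.sheaf (X ↘ Spec (CommRingCat.of k))) L)
        (Coh.structureModule X) 1) : ℤ) -
      Module.finrank k (Ext (CohB1.tensorMod (Omega.sheaf (X ↘ Spec (CommRingCat.of k))) L)
        (Coh.structureModule X) 0) = 3 * (Curv2.genus k X : ℤ) - 3 + Nat.card D ∧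
    Subsingleton (Ext (CohB1.tensorMod (Omega.sheaf (X ↘ Spec (CommRingCat.of k))) L)
        (Coh.structureModule X) 2) := by
  haveI := Groth.L21.RR.isNoetherian_of_proper (X := X) k
  obtain ⟨hred, hgen⟩ := Groth.L21.CurveAdj.nodal_reduced (k := k) hdim hnod
  haveI := hred
  have h0 : h k 0 (Coh.structureModule X) = 1 := Groth.L21.CurveAdj.h0_eq_one_of_connected
  have hd : topologicalKrullDim X ≤ 1 := hdim.le
  obtain ⟨w, t, hwt⟩ := Groth.L21.CurveDual.exists_isRDual_of_proper (X := X) k hd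
  obtain ⟨-, -, -, hset⟩ := Groth.L21.CurveAdj.nodal_setup hdim h0 hnod
  obtain ⟨S, hw⟩ := hset w t hwt
  obtain ⟨hLinv, hLdeg, -⟩ := Groth.L21.CurveAdj.degOn_inverse (k := k) hd hgen hDcl hDfin hpts hL
  have hO : Curv2.euler k X (Coh.structureModule X) = 1 - (Curv2.genus k X : ℤ) := by
    rw [Groth.L21.RR.euler_eq k hd, h0]
    rfl
  have hwχ : Curv2.euler k X w = -Curv2.euler k X (Coh.structureModule X) :=
    Groth.L21.CurveDual.euler_eq_neg hd hwt S.assO
  let M := CohB1.tensorMod L w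
  have hM : PicF.IsInvertible M := Groth.L18.GenLoc.isInvertible_tensor hLinv hw
  have hMdeg : Curv2.deg k X M 1 = (Nat.card D : ℤ) + (2 * (Curv2.genus k X : ℤ) - 2) := by
    have h1 := Groth.L22.CurveDeg.deg_tensor_locFree k hd
      (Groth.L12.FinCov.isFinLocFreeOfRank_one_of_isInvertible hLinv)
      (Groth.L12.FinCov.isFinLocFreeOfRank_one_of_isInvertible hw)
    rw [mul_one, hLdeg] at h1
    rw [show Curv2.deg k X M 1 = _ from h1, Curv2.deg, hwχ, hO]
    push_cast
    ring
  let Ω := Omega.sheaf (X ↘ Spec (CommRingCat.of k))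
  let G := CohB1.tensorMod M Ω
  have hG : Coh.IsCoh G := Groth.L22.CurveDeg.isCoh_tensor_locFree
    (Groth.L12.FinCov.isFinLocFreeOfRank_one_of_isInvertible hM) (Groth.L15.OmegaCoh.isCoh_omega _)
  have hGχ : Curv2.euler k X G = 3 * (Curv2.genus k X : ℤ) - 3 + Nat.card D := by
    rw [show Curv2.euler k X G = _ from (euler_omega_nodal hdim hnod).2 M hM, hO, hMdeg]
    ring
  -- duality
  obtain ⟨N, ι, hι, hιk⟩ := exists_closedImmersion_proper (k := k) hd
  haveI := hι
  have hcomp : ∀ Z ∈ irreducibleComponents X, topologicalKrullDim Z = ((1 : ℕ) : WithBot ℕ∞) := fun Z hZ => by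
    rw [Groth.L21.NormRed.dim_components k hdim Z hZ, Nat.cast_one]
  have hdual : ∀ F : X.Modules, Coh.IsCoh F → ∀ ψ : Coh.HH X F 1 →ₗ[k] k,
      ∃! φ : F ⟶ w, ∀ x : Coh.HH X F 1,
        ψ x = t (Sheaf.H.map ((SheafOfModules.toSheaf X.ringCatSheaf).map φ) 1 x) := fun F hF ψ => by
    obtain ⟨φ, hφ, hu⟩ := (hwt.2 F hF.1).existsUnique ψ
    exact ⟨φ, fun z => (LinearMap.congr_fun hφ z).symm,
      fun φ' h' => hu φ' (LinearMap.ext fun z => (h' z).symm)⟩
  obtain ⟨hi, hbig⟩ := Groth.Agent.S15517.result k N 1 X ι hιk (by rw [hdim, Nat.cast_one])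
    (fun x hx => ⟨isCM_stalk k hd x, Groth.L21.CurveDual.ringKrullDim_stalk_closed k hcomp hx⟩)
    w (Groth.L16.ProperFinite.isCoh_of_isInvertible hw) t hdual G hG
  let eG : CohB1.tensorMod (CohB1.tensorMod Ω L) w ≅ G := tensorAssoc Ω L w ≪≫ tensorComm Ω M
  obtain ⟨a0⟩ := nonempty_ext_structure (k := k) hw eG 0
  obtain ⟨a1⟩ := nonempty_ext_structure (k := k) hw eG 1
  obtain ⟨a2⟩ := nonempty_ext_structure (k := k) hw eG 2
  refine ⟨?_, ?_⟩
  · obtain ⟨b0⟩ := hi 0 (by norm_num)
    obtain ⟨b1⟩ := hi 1 le_rfl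
    rw [(a1.trans b1).finrank_eq, (a0.trans b0).finrank_eq, Subspace.dual_finrank_eq, Subspace.dual_finrank_eq,
      ← hGχ, Groth.L21.RR.euler_eq k hd]
  · haveI := hbig 2 (by norm_num)
    exact a2.toEquiv.subsingleton

end Groth.L21.NodalExt
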