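import Mathlib.RingTheory.Kaehler.Basic
import Mathlib.RingTheory.LocalRing.ResidueField.Basic
import Mathlib.RingTheory.Nakayama
import Mathlib.RingTheory.Length
import Mathlib.RingTheory.Localization.AtPrime.Basic
import Mathlib.RingTheory.Ideal.Cotangent
import Mathlib.RingTheory.SimpleModule.Basic
import Mathlib.RingTheory.PrincipalIdealDomain
import Mathlib.RingTheory.Localization.Submodule
import Mathlib.Algebra.Module.Projective
import Mathlib.Tactic.LinearCombination

/-!
Differentials of a node and of its normalisation.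

`R` is the local ring of the node, `B` the semi-local ring of the normalisation over it, with the two maximal
ideals `q₁`, `q₂`; `q₁ ⊓ q₂` comes from the maximal ideal of `R` and is generated by `t`.  Then `Ω_R ⟶ Ω_B` is
surjective with kernel of length one.
-/

set_option autoImplicit false
set_option linter.style.haveILetI false
set_option linter.unusedSectionVars false

universe u

open IsLocalRing KaehlerDifferential

noncomputable section

namespace Groth.L21.NodalExt

/-- The generator of the intersection of the two maximal ideals. -/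
theorem exists_generator {B : Type u} [CommRing B] [IsNoetherianRing B] (q₁ q₂ : Ideal B) [q₁.IsMaximal]
    [q₂.IsMaximal] (hne : q₁ ≠ q₂) (hmax : ∀ M : Ideal B, M.IsMaximal → M = q₁ ∨ M = q₂)
    (hloc : ∀ (q : Ideal B) [q.IsPrime], q = q₁ ∨ q = q₂ → IsDomain (Localization.AtPrime q) ∧
      IsPrincipalIdealRing (Localization.AtPrime q) ∧ ¬ IsField (Localization.AtPrime q)) :
    ∃ t, q₁ ⊓ q₂ = Ideal.span {t} ∧ ∀ z, z * t = 0 → z = 0 := by
  classical
  have hnot : ∀ (q q' : Ideal B) [q.IsMaximal] [q'.IsMaximal], q ≠ q' → (q = q₁ ∨ q = q₂) →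
      ¬ q ⊓ q' ≤ q * q := by
    intro q q' _ _ hqq hq hle
    obtain ⟨a, ha, b, hb, hab⟩ := Submodule.mem_sup.1
      (show (1 : B) ∈ q ⊔ q' from by rw [Ideal.IsMaximal.coprime_of_ne inferInstance inferInstance hqq]; trivial)
    have hsq : q ≤ q * q := fun z hz => by
      have h1 : z = z * a + z * b := by rw [← mul_add, hab, mul_one]
      rw [h1]
      exact add_mem (Ideal.mul_mem_mul hz ha) (hle ⟨Ideal.mul_mem_right _ _ hz, Ideal.mul_mem_left _ _ hb⟩)
    obtain ⟨-, -, hnf⟩ := hloc q hq
    let O := Localization.AtPrime q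
    haveI : IsNoetherianRing O := IsLocalization.isNoetherianRing q.primeCompl O inferInstance
    have hm : maximalIdeal O ≤ maximalIdeal O • maximalIdeal O := by
      rw [← Localization.AtPrime.map_eq_maximalIdeal, smul_eq_mul, ← Ideal.map_mul]
      exact Ideal.map_mono hsq
    have h0 : maximalIdeal O = ⊥ :=
      Submodule.eq_bot_of_le_smul_of_le_jacobson_bot _ _ (IsNoetherian.noetherian _) hm (maximalIdeal_le_jacobson _)
    exact hnf (isField_iff_maximalIdeal_eq.2 h0)
  obtain ⟨a, haJ, ha⟩ := SetLike.not_le_iff_exists.1 (hnot q₁ q₂ hne (Or.inl rfl))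
  obtain ⟨b, hbJ, hb⟩ := SetLike.not_le_iff_exists.1 (hnot q₂ q₁ (Ne.symm hne) (Or.inr rfl))
  rw [inf_comm] at hbJ
  obtain ⟨t, htJ, ht1, ht2⟩ : ∃ t ∈ q₁ ⊓ q₂, t ∉ q₁ * q₁ ∧ t ∉ q₂ * q₂ := by
    by_cases ha2 : a ∈ q₂ * q₂
    · by_cases hb1 : b ∈ q₁ * q₁
      · refine ⟨a + b, add_mem haJ hbJ, fun h => ha ?_, fun h => hb ?_⟩
        · simpa using sub_mem h hb1
        · simpa using sub_mem h ha2
      · exact ⟨b, hbJ, hb1, hb⟩
    · exact ⟨a, haJ, ha, ha2⟩
  have htq : ∀ (q : Ideal B) [q.IsMaximal], (q = q₁ ∨ q = q₂) → ∀ s : B, s ∉ q → s * t ∉ q * q := by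
    intro q _ hq s hs hst
    obtain ⟨c, hc⟩ : ∃ c, c * s - 1 ∈ q := by
      obtain ⟨c, i, hi, hci⟩ := Ideal.IsMaximal.exists_inv inferInstance hs
      exact ⟨c, by rw [← hci, sub_add_cancel_left]; exact neg_mem hi⟩
    have htqq : t ∈ q := by rcases hq with rfl | rfl <;> [exact htJ.1; exact htJ.2]
    have : t ∈ q * q := by
      rw [show t = c * (s * t) - (c * s - 1) * t by ring]
      exact sub_mem (Ideal.mul_mem_left _ _ hst) (Ideal.mul_mem_mul hc htqq)
    rcases hq with rfl | rfl <;> [exact ht1 this; exact ht2 this]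
  have key : ∀ (q : Ideal B) [q.IsMaximal], (q = q₁ ∨ q = q₂) →
      (∀ z ∈ q₁ ⊓ q₂, ∃ s ∉ q, s * z ∈ Ideal.span {t}) ∧ ∀ z, z * t = 0 → ∃ s ∉ q, s * z = 0 := by
    intro q _ hq
    obtain ⟨hdom, hpid, -⟩ := hloc q hq
    let O := Localization.AtPrime q
    have hle : q₁ ⊓ q₂ ≤ q := by rcases hq with rfl | rfl <;> [exact inf_le_left; exact inf_le_right]
    have htm : algebraMap B O t ∉ maximalIdeal O * maximalIdeal O := by
      intro h
      rw [← Localization.AtPrime.map_eq_maximalIdeal, ← Ideal.map_mul,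
        IsLocalization.algebraMap_mem_map_algebraMap_iff q.primeCompl] at h
      obtain ⟨s, hs, hst⟩ := h
      exact htq q hq s hs hst
    obtain ⟨π, hπ⟩ := (IsPrincipalIdealRing.principal (maximalIdeal O)).principal
    rw [Ideal.submodule_span_eq] at hπ
    have hmem : ∀ z ∈ q, algebraMap B O z ∈ maximalIdeal O := fun z hz => by
      rw [← Localization.AtPrime.map_eq_maximalIdeal]; exact Ideal.mem_map_of_mem _ hz
    obtain ⟨α, hα⟩ := Ideal.mem_span_singleton'.1 (hπ ▸ hmem t (hle htJ))
    have hπm : π ∈ maximalIdeal O := hπ ▸ Ideal.mem_span_singleton_self π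
    have hαu : IsUnit α := by
      by_contra hα'
      exact htm (hα ▸ Ideal.mul_mem_mul ((mem_maximalIdeal α).2 hα') hπm)
    refine ⟨fun z hz => ?_, fun z hz => ?_⟩
    · obtain ⟨β, hβ⟩ := Ideal.mem_span_singleton'.1 (hπ ▸ hmem z (hle hz))
      obtain ⟨αi, hαi⟩ := hαu.exists_left_inv
      obtain ⟨⟨c, s⟩, hcs⟩ := IsLocalization.surj q.primeCompl (β * αi)
      have h1 : algebraMap B O (z * (s : B)) = algebraMap B O (c * t) := by
        rw [map_mul, map_mul, ← hcs, ← hβ, ← hα]
        linear_combination (-(β * π * algebraMap B O (s : B))) * hαi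
      obtain ⟨w, hw⟩ := (IsLocalization.eq_iff_exists q.primeCompl O).1 h1
      exact ⟨w * s, fun h => (Ideal.IsPrime.mem_or_mem inferInstance h).elim w.2 s.2,
        Ideal.mem_span_singleton'.2 ⟨w * c, by linear_combination -hw⟩⟩
    · have ht0 : algebraMap B O t ≠ 0 := fun h => htm (h ▸ zero_mem _)
      have hz0 : algebraMap B O z = 0 :=
        (mul_eq_zero.1 (by rw [← map_mul, hz, map_zero])).resolve_right ht0
      obtain ⟨w, hw⟩ := (IsLocalization.map_eq_zero_iff q.primeCompl O z).1 hz0
      exact ⟨w, w.2, hw⟩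
  refine ⟨t, le_antisymm (fun z hz => ?_) ((Ideal.span_singleton_le_iff_mem _).2 htJ), fun z hz => ?_⟩
  · let A : Ideal B := Submodule.comap (LinearMap.toSpanSingleton B B z) (Ideal.span {t})
    have hA : A = ⊤ := by
      by_contra hA
      obtain ⟨M, hM, hAM⟩ := Ideal.exists_le_maximal A hA
      haveI := hM
      obtain ⟨s, hs, hsz⟩ := (key M (hmax M hM)).1 z hz
      exact hs (hAM hsz)
    have h1 : (1 : B) ∈ A := hA ▸ Submodule.mem_top
    simpa [A] using h1
  · let A : Ideal B := Submodule.comap (LinearMap.toSpanSingleton B B z) (⊥ : Ideal B)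
    have hA : A = ⊤ := by
      by_contra hA
      obtain ⟨M, hM, hAM⟩ := Ideal.exists_le_maximal A hA
      haveI := hM
      obtain ⟨s, hs, hsz⟩ := (key M (hmax M hM)).2 z hz
      exact hs (hAM (by simpa [A] using hsz))
    have h1 : (1 : B) ∈ A := hA ▸ Submodule.mem_top
    simpa [A] using h1

variable (k : Type u) {R B : Type u} [Field k] [CommRing R] [IsLocalRing R] [Algebra k R] [CommRing B]
  [Algebra k B] [Algebra R B] [IsScalarTower k R B]

/-- The data of a node and of the ring of its normalisation. -/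
structure NodeData (q₁ q₂ : Ideal B) (t : B) : Prop where
  inj : Function.Injective (algebraMap R B)
  res : ∀ r : R, ∃ c : k, r - algebraMap k R c ∈ maximalIdeal R
  res₁ : ∀ z : B, ∃ c : k, z - algebraMap k B c ∈ q₁
  res₂ : ∀ z : B, ∃ c : k, z - algebraMap k B c ∈ q₂
  prime₁ : q₁.IsMaximal
  prime₂ : q₂.IsMaximal
  ne : q₁ ≠ q₂
  max : ∀ M : Ideal B, M.IsMaximal → M = q₁ ∨ M = q₂
  le : ∀ r ∈ maximalIdeal R, algebraMap R B r ∈ q₁ ∧ algebraMap R B r ∈ q₂
  cap : ∀ b, b ∈ q₁ → b ∈ q₂ → ∃ r ∈ maximalIdeal R, algebraMap R B r = b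
  gen : q₁ ⊓ q₂ = Ideal.span {t}
  nzd : ∀ z, z * t = 0 → z = 0

variable {k} {q₁ q₂ : Ideal B} {t : B} (h : NodeData k (R := R) q₁ q₂ t)

include h in
theorem NodeData.t_mem : t ∈ q₁ ⊓ q₂ := h.gen ▸ Ideal.mem_span_singleton_self t

include h in
theorem NodeData.exists_e : ∃ e : B, e ∈ q₂ ∧ e - 1 ∈ q₁ := by
  haveI := h.prime₁; haveI := h.prime₂
  obtain ⟨a, ha, b, hb, hab⟩ := Submodule.mem_sup.1
    (show (1 : B) ∈ q₁ ⊔ q₂ from by rw [Ideal.IsMaximal.coprime_of_ne inferInstance inferInstance h.ne]; trivial)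
  exact ⟨b, hb, by rw [← hab]; simpa using neg_mem ha⟩

include h in
theorem NodeData.jacobson_le : q₁ ⊓ q₂ ≤ Ideal.jacobson ⊥ := by
  refine le_sInf fun M hM => ?_
  rcases h.max M hM.2 with rfl | rfl <;> [exact inf_le_left; exact inf_le_right]

include h in
theorem NodeData.exists_ab {e : B} (he2 : e ∈ q₂) (he1 : e - 1 ∈ q₁) (z : B) :
    ∃ a b : R, z = algebraMap R B a + algebraMap R B b * e := by
  obtain ⟨c₁, h1⟩ := h.res₁ z
  obtain ⟨c₂, h2⟩ := h.res₂ z
  let w := z - algebraMap k B c₂ - algebraMap k B (c₁ - c₂) * e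
  have hw1 : w ∈ q₁ := by
    have : w = (z - algebraMap k B c₁) - algebraMap k B (c₁ - c₂) * (e - 1) := by
      simp only [w, map_sub]; ring
    rw [this]; exact sub_mem h1 (Ideal.mul_mem_left _ _ he1)
  have hw2 : w ∈ q₂ := sub_mem h2 (Ideal.mul_mem_left _ _ he2)
  obtain ⟨r, -, hr⟩ := h.cap w hw1 hw2
  refine ⟨r + algebraMap k R c₂, algebraMap k R (c₁ - c₂), ?_⟩
  rw [map_add, hr, ← IsScalarTower.algebraMap_apply, ← IsScalarTower.algebraMap_apply]
  simp only [w]
  ring

include h in
theorem NodeData.isUnit_two_e {e : B} (he2 : e ∈ q₂) (he1 : e - 1 ∈ q₁) : IsUnit (2 * e - 1) := by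
  haveI := h.prime₁; haveI := h.prime₂
  by_contra hu
  obtain ⟨M, hM, hmem⟩ := exists_max_ideal_of_mem_nonunits hu
  rcases h.max M hM with rfl | rfl
  · refine hM.ne_top ((Ideal.eq_top_iff_one _).2 ?_)
    have := sub_mem hmem (Ideal.mul_mem_left _ (2 : B) he1)
    rwa [show 2 * e - 1 - 2 * (e - 1) = (1 : B) by ring] at this
  · refine hM.ne_top ((Ideal.eq_top_iff_one _).2 ?_)
    have := sub_mem (Ideal.mul_mem_left _ (2 : B) he2) hmem
    rwa [show 2 * e - (2 * e - 1) = (1 : B) by ring] at this

include h in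
/-- Every differential of `B` is the image of one of `R`. -/
theorem NodeData.surjective_map : Function.Surjective (KaehlerDifferential.map k k R B) := by
  obtain ⟨e, he2, he1⟩ := h.exists_e
  obtain ⟨u, hu⟩ := (h.isUnit_two_e he2 he1).exists_left_inv
  let f := KaehlerDifferential.map k k R B
  let d := KaehlerDifferential.D k B
  let S := LinearMap.range f
  have hd : ∀ r : R, d (algebraMap R B r) ∈ S :=
    fun r => ⟨D k R r, KaehlerDifferential.map_D k k R B r⟩
  have hJ : e * e - e ∈ q₁ ∧ e * e - e ∈ q₂ := by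
    refine ⟨?_, ?_⟩
    · rw [show e * e - e = e * (e - 1) by ring]; exact Ideal.mul_mem_left _ _ he1
    · rw [show e * e - e = (e - 1) * e by ring]; exact Ideal.mul_mem_left _ _ he2
  obtain ⟨c₀, -, hc₀⟩ := h.cap _ hJ.1 hJ.2
  have hde : d e = u • d (algebraMap R B c₀) := by
    have h1 : d (algebraMap R B c₀) = (2 * e - 1) • d e := by
      rw [hc₀, map_sub, Derivation.leibniz, sub_smul, two_mul, add_smul, one_smul]
    rw [h1, smul_smul, hu, one_smul]
  have hm : ∀ r ∈ maximalIdeal R, algebraMap R B r • d e ∈ S := fun r hr => by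
    obtain ⟨r', -, hr'⟩ := h.cap (algebraMap R B r * u) (Ideal.mul_mem_right _ _ (h.le r hr).1)
      (Ideal.mul_mem_right _ _ (h.le r hr).2)
    rw [hde, smul_smul, ← hr', algebraMap_smul]
    exact Submodule.smul_mem _ _ (hd c₀)
  have he : ∀ r : R, e • d (algebraMap R B r) ∈ S := fun r => by
    obtain ⟨c, hc⟩ := h.res r
    have h0 : d (algebraMap R B r) = d (algebraMap R B (r - algebraMap k R c)) := by
      rw [map_sub, map_sub, ← IsScalarTower.algebraMap_apply k R B, Derivation.map_algebraMap, sub_zero]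
    rw [h0]
    obtain ⟨r', -, hr'⟩ := h.cap (algebraMap R B (r - algebraMap k R c) * e)
      (Ideal.mul_mem_right _ _ (h.le _ hc).1) (Ideal.mul_mem_right _ _ (h.le _ hc).2)
    have h1 : d (algebraMap R B r') = algebraMap R B (r - algebraMap k R c) • d e +
        e • d (algebraMap R B (r - algebraMap k R c)) := by rw [hr', Derivation.leibniz]
    have h2 := sub_mem (hd r') (hm _ hc)
    rwa [h1, add_sub_cancel_left] at h2
  have hz : ∀ (z : B) (r : R), z • d (algebraMap R B r) ∈ S := fun z r => by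
    obtain ⟨a, b, rfl⟩ := h.exists_ab he2 he1 z
    rw [add_smul, mul_smul, algebraMap_smul, algebraMap_smul]
    exact add_mem (S.smul_mem _ (hd r)) (S.smul_mem _ (he r))
  let T : Submodule B (Ω[B⁄k]) :=
    { carrier := {w | ∀ z : B, z • w ∈ S}
      add_mem' := fun ha hb z => by rw [smul_add]; exact add_mem (ha z) (hb z)
      zero_mem' := fun z => by rw [smul_zero]; exact zero_mem _
      smul_mem' := fun y w hw z => by rw [smul_smul]; exact hw _ }
  have hT : T = ⊤ := by
    rw [eq_top_iff, ← KaehlerDifferential.span_range_derivation k B, Submodule.span_le]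
    rintro _ ⟨z, rfl⟩
    obtain ⟨a, b, rfl⟩ := h.exists_ab he2 he1 z
    intro y
    rw [map_add, Derivation.leibniz, smul_add, smul_add, hde, smul_smul, smul_smul, smul_smul]
    exact add_mem (hz y a) (add_mem (hz _ c₀) (hz _ b))
  intro w
  have h1 : w ∈ T := hT ▸ Submodule.mem_top
  obtain ⟨v, hv⟩ := h1 1
  exact ⟨v, hv.trans (one_smul _ _)⟩

include h in
/-- The differential of `t` generates. -/
theorem NodeData.span_dt [Module.Finite B (Ω[B⁄k])] :
    (⊤ : Submodule B (Ω[B⁄k])) ≤ Submodule.span B {D k B t} := by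
  obtain ⟨e, he2, he1⟩ := h.exists_e
  let N : Submodule B (Ω[B⁄k]) := Submodule.span B {D k B t}
  let J := q₁ ⊓ q₂
  let N' := N ⊔ J • (⊤ : Submodule B (Ω[B⁄k]))
  have hJ : ∀ b ∈ J, D k B b ∈ N' := fun b hb => by
    obtain ⟨z, rfl⟩ := Ideal.mem_span_singleton'.1 (h.gen ▸ hb : b ∈ Ideal.span {t})
    rw [Derivation.leibniz]
    exact add_mem (Submodule.mem_sup_left (N.smul_mem _ (Submodule.mem_span_singleton_self _)))
      (Submodule.mem_sup_right (Submodule.smul_mem_smul h.t_mem Submodule.mem_top))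
  have hR : ∀ r : R, D k B (algebraMap R B r) ∈ N' := fun r => by
    obtain ⟨c, hc⟩ := h.res r
    have h0 := hJ (algebraMap R B (r - algebraMap k R c)) (h.le _ hc)
    rwa [map_sub, map_sub, ← IsScalarTower.algebraMap_apply k R B, Derivation.map_algebraMap, sub_zero] at h0
  obtain ⟨u, hu⟩ := (h.isUnit_two_e he2 he1).exists_left_inv
  have he : D k B e ∈ N' := by
    have hJ' : e * e - e ∈ J :=
      ⟨by rw [show e * e - e = e * (e - 1) by ring]; exact Ideal.mul_mem_left _ _ he1,
        by rw [show e * e - e = (e - 1) * e by ring]; exact Ideal.mul_mem_left _ _ he2⟩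
    have h1 : D k B e = u • D k B (e * e - e) := by
      rw [map_sub, Derivation.leibniz, ← two_smul B, smul_smul, smul_sub, smul_smul, ← sub_smul,
        show u * (2 * e) - u = u * (2 * e - 1) by ring, hu, one_smul]
    rw [h1]; exact N'.smul_mem _ (hJ _ hJ')
  refine Submodule.le_of_le_smul_of_le_jacobson_bot Module.Finite.fg_top h.jacobson_le ?_
  rw [← KaehlerDifferential.span_range_derivation k B, Submodule.span_le]
  rintro _ ⟨z, rfl⟩
  obtain ⟨a, b, rfl⟩ := h.exists_ab he2 he1 z
  rw [SetLike.mem_coe, map_add, Derivation.leibniz, KaehlerDifferential.span_range_derivation]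
  exact add_mem (hR a) (add_mem (N'.smul_mem _ he) (N'.smul_mem _ (hR b)))

/-- The derivation to the cotangent space at a maximal ideal with trivial residue extension. -/
def cotDer (q : Ideal B) [q.IsMaximal] (c : B → k) (hc : ∀ z, z - algebraMap k B (c z) ∈ q) :
    Derivation k B q.Cotangent :=
  have huniq : ∀ z a, z - algebraMap k B a ∈ q → a = c z := fun z a ha => by
    by_contra hne
    refine (Ideal.IsMaximal.ne_top inferInstance : q ≠ ⊤) (Ideal.eq_top_of_isUnit_mem _ ?_
      ((IsUnit.mk0 _ (sub_ne_zero.2 hne)).map (algebraMap k B)))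
    have := sub_mem (hc z) ha
    rwa [sub_sub_sub_cancel_left, ← map_sub] at this
  { toFun := fun z => q.toCotangent ⟨_, hc z⟩
    map_add' := fun z w => by
      have h1 : c (z + w) = c z + c w := (huniq _ _ (by
        have := add_mem (hc z) (hc w); rwa [map_add, add_sub_add_comm])).symm
      rw [← map_add]
      refine congrArg _ (Subtype.ext ?_)
      show z + w - _ = (z - _) + (w - _)
      rw [h1, map_add]; ring
    map_smul' := fun a z => by
      have h1 : c (a • z) = a * c z := (huniq _ _ (by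
        have := q.mul_mem_left (algebraMap k B a) (hc z)
        rwa [Algebra.smul_def, map_mul, ← mul_sub])).symm
      rw [RingHom.id_apply, ← IsScalarTower.algebraMap_smul B a (q.toCotangent ⟨_, hc z⟩), ← map_smul]
      refine congrArg _ (Subtype.ext ?_)
      show a • z - _ = algebraMap k B a * (z - _)
      rw [h1, Algebra.smul_def, map_mul]; ring
    map_one_eq_zero' := by
      show q.toCotangent ⟨_, hc 1⟩ = 0
      have h1 : c 1 = 1 := (huniq _ _ (by rw [map_one, sub_self]; exact zero_mem _)).symm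
      rw [show (⟨_, hc 1⟩ : q) = 0 from Subtype.ext
        (show (1 : B) - algebraMap k B (c 1) = 0 by rw [h1, map_one, sub_self]), map_zero]
    leibniz' := fun z w => by
      show q.toCotangent ⟨_, hc (z * w)⟩ = z • q.toCotangent ⟨_, hc w⟩ + w • q.toCotangent ⟨_, hc z⟩
      have h1 : c (z * w) = c z * c w := (huniq _ _ (by
        have := add_mem (q.mul_mem_left z (hc w)) (q.mul_mem_left (algebraMap k B (c w)) (hc z))
        rwa [map_mul, show z * w - algebraMap k B (c z) * algebraMap k B (c w) =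
          z * (w - algebraMap k B (c w)) + algebraMap k B (c w) * (z - algebraMap k B (c z)) by ring])).symm
      rw [← map_smul, ← map_smul, ← map_add, Ideal.toCotangent_eq]
      show z * w - algebraMap k B (c (z * w)) -
        (z * (w - algebraMap k B (c w)) + w * (z - algebraMap k B (c z))) ∈ q ^ 2
      rw [h1, map_mul, show z * w - algebraMap k B (c z) * algebraMap k B (c w) -
        (z * (w - algebraMap k B (c w)) + w * (z - algebraMap k B (c z))) =
        -((z - algebraMap k B (c z)) * (w - algebraMap k B (c w))) by ring, pow_two]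
      exact neg_mem (Ideal.mul_mem_mul (hc z) (hc w)) }

include h in
/-- `dt` is a basis. -/
theorem NodeData.eq_zero_of_smul_dt [IsNoetherianRing B] [Module.Projective B (Ω[B⁄k])]
    [Module.Finite B (Ω[B⁄k])] {z : B} (hz : z • D k B t = 0) : z = 0 := by
  classical
  haveI := h.prime₁; haveI := h.prime₂
  let π : B →ₗ[B] Ω[B⁄k] := LinearMap.toSpanSingleton B _ (D k B t)
  have hπ : Function.Surjective π := fun w =>
    Submodule.mem_span_singleton.1 (h.span_dt Submodule.mem_top)
  obtain ⟨s, hs⟩ := Module.projective_lifting_property π LinearMap.id hπ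
  let p := s (D k B t)
  have hp : p • D k B t = D k B t := LinearMap.congr_fun hs _
  have hpp : p * p = p := by
    have h1 := congrArg s hp
    rwa [map_smul, smul_eq_mul] at h1
  have hzp : z * p = 0 := by rw [← smul_eq_mul, ← map_smul, hz, map_zero]
  have hfj : ∀ (q : Ideal B) [q.IsMaximal] (hres : ∀ y : B, ∃ c : k, y - algebraMap k B c ∈ q), t ∈ q →
      t ∉ q * q → 1 - p ∈ q := by
    intro q _ hres htq htqq
    choose c hc using hres
    let δ := cotDer q c hc
    have h0 : (1 - p) • δ t = 0 := by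
      rw [← Derivation.liftKaehlerDifferential_comp_D δ t, ← map_smul, sub_smul, one_smul, hp, sub_self, map_zero]
    by_contra hf
    obtain ⟨g, i, hi, hgi⟩ := Ideal.IsMaximal.exists_inv inferInstance hf
    have hct : c t = 0 := by
      by_contra hne
      refine (Ideal.IsMaximal.ne_top inferInstance : q ≠ ⊤) (Ideal.eq_top_of_isUnit_mem _ ?_
        ((IsUnit.mk0 _ hne).map (algebraMap k B)))
      have := sub_mem htq (hc t)
      rwa [sub_sub_cancel] at this
    have hδt : δ t = q.toCotangent ⟨t, htq⟩ :=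
      congrArg q.toCotangent (Subtype.ext (show t - algebraMap k B (c t) = t by rw [hct, map_zero, sub_zero]))
    have hi0 : i • δ t = 0 := by
      rw [hδt, ← map_smul, Ideal.toCotangent_eq_zero, pow_two]
      exact Ideal.mul_mem_mul hi htq
    have : δ t = 0 := by
      rw [← one_smul B (δ t), ← hgi, add_smul, mul_smul, h0, smul_zero, hi0, add_zero]
    rw [hδt, Ideal.toCotangent_eq_zero, pow_two] at this
    exact htqq this
  have hq : ∀ (q q' : Ideal B) [q.IsMaximal] [q'.IsMaximal], q ≠ q' → q₁ ⊓ q₂ = q ⊓ q' → t ∉ q * q := by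
    intro q q' _ _ hne hJ htt
    obtain ⟨a, ha, b, hb, hab⟩ := Submodule.mem_sup.1
      (show (1 : B) ∈ q ⊔ q' from by rw [Ideal.IsMaximal.coprime_of_ne inferInstance inferInstance hne]; trivial)
    have hle : q ⊓ q' ≤ q * q := by
      rw [← hJ, h.gen, Ideal.span_singleton_le_iff_mem]; exact htt
    have hsq : q ≤ q • q := fun y hy => by
      have h1 : y = y * a + y * b := by rw [← mul_add, hab, mul_one]
      rw [h1]
      exact add_mem (Ideal.mul_mem_mul hy ha) (hle ⟨Ideal.mul_mem_right _ _ hy, Ideal.mul_mem_left _ _ hb⟩)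
    obtain ⟨r, hr, hr0⟩ := Submodule.exists_mem_and_smul_eq_self_of_fg_of_le_smul q q
      (IsNoetherian.noetherian q) hsq
    have htq : t ∈ q := Ideal.mul_le_left htt
    have : (1 - r) * t = 0 := by rw [sub_mul, one_mul, show r * t = t from hr0 t htq, sub_self]
    exact (Ideal.IsMaximal.ne_top inferInstance : q ≠ ⊤)
      ((Ideal.eq_top_iff_one _).2 (sub_eq_zero.1 (h.nzd _ this) ▸ hr))
  have h1 := hfj q₁ h.res₁ h.t_mem.1 (hq q₁ q₂ h.ne rfl)
  have h2 := hfj q₂ h.res₂ h.t_mem.2 (hq q₂ q₁ (Ne.symm h.ne) (inf_comm _ _))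
  have hu : IsUnit p := by
    have := Ideal.mem_jacobson_bot.1 (h.jacobson_le ⟨h1, h2⟩) (-1)
    rwa [show (1 - p) * -1 + 1 = p by ring] at this
  exact (IsUnit.mul_left_eq_zero hu).1 hzp

include h in
/-- The kernel of `Ω_R ⟶ Ω_B` has length one. -/
theorem NodeData.length_ker [IsNoetherianRing B] [Module.Projective B (Ω[B⁄k])] [Module.Finite B (Ω[B⁄k])]
    [IsNoetherianRing R] [Module.Finite R (Ω[R⁄k])] :
    Module.length R (LinearMap.ker (KaehlerDifferential.map k k R B)) = 1 := by
  classical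
  haveI := h.prime₁; haveI := h.prime₂
  obtain ⟨e, he2, he1⟩ := h.exists_e
  obtain ⟨u, hu⟩ := (h.isUnit_two_e he2 he1).exists_left_inv
  let ι := algebraMap R B
  let m := maximalIdeal R
  let d := D k R
  let f := KaehlerDifferential.map k k R B
  have hf : ∀ (r s : R), f (r • d s) = ι r • D k B (ι s) := fun r s => by
    rw [map_smul, KaehlerDifferential.map_D, algebraMap_smul]
  -- the elements `t z` of the maximal ideal
  have hL : ∀ z : B, ∃ r ∈ m, ι r = t * z := fun z =>
    h.cap _ (Ideal.mul_mem_right _ _ h.t_mem.1) (Ideal.mul_mem_right _ _ h.t_mem.2)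
  choose L hLm hLι using hL
  let t₀ := L 1
  let x := L e
  have ht₀ : ι t₀ = t := (hLι 1).trans (mul_one t)
  have hsurjL : ∀ r ∈ m, ∃ z, ι r = t * z := fun r hr => by
    obtain ⟨z, hz⟩ := Ideal.mem_span_singleton'.1 (h.gen ▸ h.le r hr : ι r ∈ Ideal.span {t})
    exact ⟨z, by rw [← hz, mul_comm]⟩
  have hm2 : ∀ r z, ι r = t * t * z → r ∈ m ^ 2 := fun r z hz => by
    have : r = t₀ * L z := h.inj (by rw [map_mul, ht₀, hLι]; exact hz.trans (mul_assoc _ _ _))
    rw [this, pow_two]; exact Ideal.mul_mem_mul (hLm _) (hLm _)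
  have hm2' : ∀ r ∈ m ^ 2, ∃ z, ι r = t * t * z := by
    intro r hr
    rw [pow_two] at hr
    refine Submodule.mul_induction_on hr (fun a ha b hb => ?_) fun a b ha hb => ?_
    · obtain ⟨za, hza⟩ := hsurjL a ha
      obtain ⟨zb, hzb⟩ := hsurjL b hb
      exact ⟨za * zb, by rw [map_mul, hza, hzb]; ring⟩
    · obtain ⟨za, hza⟩ := ha
      obtain ⟨zb, hzb⟩ := hb
      exact ⟨za + zb, by rw [map_add, hza, hzb]; ring⟩
  have hab : ∀ r ∈ m, ∃ a b : R, r = a * t₀ + b * x := fun r hr => by
    obtain ⟨z, hz⟩ := hsurjL r hr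
    obtain ⟨a, b, rfl⟩ := h.exists_ab he2 he1 z
    exact ⟨a, b, h.inj (by rw [map_add, map_mul, map_mul, ht₀, hLι]; exact hz.trans (by ring))⟩
  -- generators of `Ω_R`
  let G : Submodule R (Ω[R⁄k]) := Submodule.span R {d t₀, d x}
  have hG : (⊤ : Submodule R (Ω[R⁄k])) ≤ G := by
    refine Submodule.le_of_le_smul_of_le_jacobson_bot (I := m) Module.Finite.fg_top (maximalIdeal_le_jacobson _) ?_
    rw [← KaehlerDifferential.span_range_derivation k R, Submodule.span_le]
    rintro _ ⟨r, rfl⟩
    obtain ⟨c, hc⟩ := h.res r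
    obtain ⟨a, b, hr⟩ := hab _ hc
    have hd : d r = d (a * t₀ + b * x) := by
      rw [← hr, map_sub, Derivation.map_algebraMap, sub_zero]
    rw [SetLike.mem_coe, KaehlerDifferential.span_range_derivation, show D k R r = d (a * t₀ + b * x) from hd, map_add,
      Derivation.leibniz, Derivation.leibniz]
    refine add_mem (add_mem ?_ ?_) (add_mem ?_ ?_)
    · exact Submodule.mem_sup_left (G.smul_mem _ (Submodule.subset_span (by simp)))
    · exact Submodule.mem_sup_right (Submodule.smul_mem_smul (hLm 1) Submodule.mem_top)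
    · exact Submodule.mem_sup_left (G.smul_mem _ (Submodule.subset_span (by simp)))
    · exact Submodule.mem_sup_right (Submodule.smul_mem_smul (hLm e) Submodule.mem_top)
  have hgen : ∀ w : Ω[R⁄k], ∃ a b : R, a • d t₀ + b • d x = w := fun w =>
    Submodule.mem_span_pair.1 (hG Submodule.mem_top)
  -- the relation between `x` and `t`
  obtain ⟨c₀, hc₀m, hc₀⟩ := h.cap (e * e - e)
    (by rw [show e * e - e = e * (e - 1) by ring]; exact Ideal.mul_mem_left _ _ he1)
    (by rw [show e * e - e = (e - 1) * e by ring]; exact Ideal.mul_mem_left _ _ he2)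
  have hrel : x * x - t₀ * x = t₀ * t₀ * c₀ := h.inj (by
    simp only [map_sub, map_mul]
    rw [hc₀, ht₀, hLι]; ring)
  have hdrel : (2 * x - t₀) • d x = (x + 2 * t₀ * c₀) • d t₀ + (t₀ * t₀) • d c₀ := by
    have h1 := congrArg d hrel
    simp only [map_sub, Derivation.leibniz, smul_add, smul_smul] at h1
    linear_combination (norm := module) h1
  -- `m² Ω` consists of multiples of `dt`
  let W : Submodule R (Ω[R⁄k]) := m ^ 2 • Submodule.span R {d t₀}
  let M : Submodule R (Ω[R⁄k]) := m ^ 2 • ⊤
  have hMW : M ≤ W := by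
    refine Submodule.le_of_le_smul_of_le_jacobson_bot (I := m) ?_ (maximalIdeal_le_jacobson _) ?_
    · exact IsNoetherian.noetherian _
    refine Submodule.smul_le.2 fun r hr w _ => ?_
    obtain ⟨a, b, rfl⟩ := hgen w
    rw [smul_add, ← mul_smul r a, ← mul_smul r b]
    refine add_mem (Submodule.mem_sup_left (Submodule.smul_mem_smul (Ideal.mul_mem_right _ _ hr)
      (Submodule.mem_span_singleton_self _))) ?_
    obtain ⟨z, hz⟩ := hm2' (r * b) (Ideal.mul_mem_right _ _ hr)
    let s := L (u * z)
    have hs : r * b = s * (2 * x - t₀) := h.inj (by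
      refine hz.trans ?_
      simp only [map_mul, map_sub, map_ofNat, s]
      rw [hLι, hLι, ht₀]
      linear_combination (-(t * t * z)) * hu)
    rw [hs, mul_smul, hdrel, smul_add, smul_smul, smul_smul]
    refine add_mem (Submodule.mem_sup_left (Submodule.smul_mem_smul ?_ (Submodule.mem_span_singleton_self _)))
      (Submodule.mem_sup_right ?_)
    · rw [pow_two]
      refine Ideal.mul_mem_mul (hLm _) (add_mem (hLm _) ?_)
      exact Ideal.mul_mem_right _ _ (Ideal.mul_mem_left _ _ (hLm 1))
    · rw [mul_smul]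
      refine Submodule.smul_mem_smul (hLm _) (Submodule.smul_mem_smul ?_ Submodule.mem_top)
      rw [pow_two]; exact Ideal.mul_mem_mul (hLm 1) (hLm 1)
  have hW : ∀ w ∈ M, ∃ g ∈ m ^ 2, w = g • d t₀ := fun w hw => by
    obtain ⟨g, hg, hgw⟩ := Submodule.mem_smul_span_singleton.1 (hMW hw)
    exact ⟨g, hg, hgw.symm⟩
  have hdt : ∀ g : R, f (g • d t₀) = 0 → g = 0 := fun g hg => by
    rw [hf, ht₀] at hg
    exact h.inj ((h.eq_zero_of_smul_dt hg).trans (map_zero ι).symm)
  -- the image of `dx`
  obtain ⟨ν, hν⟩ := Submodule.mem_span_singleton.1 (h.span_dt (Submodule.mem_top (x := D k B e)))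
  let u₁ := e + t * ν
  have hfx : ∀ a : R, f (a • d x) = (ι a * u₁) • D k B t := fun a => by
    rw [hf, hLι, Derivation.leibniz, ← hν, smul_smul, ← add_smul, smul_smul]
    congr 1
    simp only [u₁]
    ring
  have hft : ∀ a : R, f (a • d t₀) = ι a • D k B t := fun a => by rw [hf, ht₀]
  let κ : Ω[R⁄k] := x • d x - L (e * u₁) • d t₀
  have hκ : f κ = 0 := by
    rw [map_sub, hfx, hft, ← sub_smul, hLι, hLι, show t * e * u₁ - t * (e * u₁) = 0 by ring, zero_smul]
  have hker : ∀ w, f w = 0 → ∃ s : R, w = s • κ := by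
    intro w hw
    obtain ⟨a, b, rfl⟩ := hgen w
    rw [map_add, hft, hfx, ← add_smul] at hw
    have h0 := h.eq_zero_of_smul_dt hw
    have hmem : ∀ {r : R}, ι r ∈ q₁ ∨ ι r ∈ q₂ → r ∈ m := fun {r} hr => by
      by_contra hrm
      have hu' : IsUnit (ι r) := (IsLocalRing.notMem_maximalIdeal.1 hrm).map ι
      rcases hr with hr | hr
      · exact h.prime₁.ne_top (Ideal.eq_top_of_isUnit_mem _ hr hu')
      · exact h.prime₂.ne_top (Ideal.eq_top_of_isUnit_mem _ hr hu')
    have ha : a ∈ m := hmem (Or.inr (by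
      have h1 : ι b * u₁ ∈ q₂ :=
        Ideal.mul_mem_left _ _ (add_mem he2 (Ideal.mul_mem_right _ _ h.t_mem.2))
      rw [show ι a = 0 - ι b * u₁ by rw [← h0]; ring]
      exact sub_mem (zero_mem _) h1))
    have hb : b ∈ m := hmem (Or.inl (by
      have h1 : ι b * (u₁ - 1) ∈ q₁ := Ideal.mul_mem_left _ _ (by
        rw [show u₁ - 1 = (e - 1) + t * ν by simp only [u₁]; ring]
        exact add_mem he1 (Ideal.mul_mem_right _ _ h.t_mem.1))
      rw [show ι b = 0 - ι a - ι b * (u₁ - 1) by linear_combination h0]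
      exact sub_mem (sub_mem (zero_mem _) (h.le a ha).1) h1))
    obtain ⟨α, β, rfl⟩ := hab b hb
    obtain ⟨g₀, hg₀, hg₀'⟩ := hW ((α * (t₀ * t₀)) • d c₀)
      (Submodule.smul_mem_smul (Ideal.mul_mem_left _ _ (by rw [pow_two]; exact Ideal.mul_mem_mul (hLm 1) (hLm 1)))
        Submodule.mem_top)
    let s := 2 * α + β
    let g := a - α * (x + 2 * t₀ * c₀) - g₀ + s * L (e * u₁)
    have hsplit : a • d t₀ + (α * t₀ + β * x) • d x = s • κ + g • d t₀ := by
      have h1 : α • ((2 * x - t₀) • d x) = α • ((x + 2 * t₀ * c₀) • d t₀ + (t₀ * t₀) • d c₀) :=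
        congrArg (α • ·) hdrel
      simp only [smul_add, smul_smul] at h1
      rw [hg₀'] at h1
      simp only [κ, s, g]
      linear_combination (norm := module) -h1
    have hg : g = 0 := by
      refine hdt g ?_
      have h2 : f (a • d t₀ + (α * t₀ + β * x) • d x) = 0 := by rw [map_add, hft, hfx, ← add_smul, hw]
      rwa [hsplit, map_add, map_smul, hκ, smul_zero, zero_add] at h2
    exact ⟨s, by rw [hsplit, hg, zero_smul, add_zero]⟩
  have hκm : ∀ r ∈ m, r • κ = 0 := fun r hr => by
    obtain ⟨g, -, hg⟩ := hW (r • κ) (by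
      rw [smul_sub, smul_smul, smul_smul]
      refine sub_mem ?_ ?_
      · exact Submodule.smul_mem_smul (by rw [pow_two]; exact Ideal.mul_mem_mul hr (hLm _)) Submodule.mem_top
      · exact Submodule.smul_mem_smul (by rw [pow_two]; exact Ideal.mul_mem_mul hr (hLm _)) Submodule.mem_top)
    have hg0 : g = 0 := hdt g (by rw [← hg, map_smul, hκ, smul_zero])
    rw [hg, hg0, zero_smul]
  -- coefficients modulo the square of the maximal ideal
  have hcoef : ∀ r : R, ∃ p : k × k × k,
      r - algebraMap k R p.1 - (algebraMap k R p.2.1 * t₀ + algebraMap k R p.2.2 * x) ∈ m ^ 2 := fun r => by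
    obtain ⟨c, hc⟩ := h.res r
    obtain ⟨A, B', hAB⟩ := hab _ hc
    obtain ⟨a, ha⟩ := h.res A
    obtain ⟨b, hb⟩ := h.res B'
    refine ⟨(c, a, b), ?_⟩
    show r - algebraMap k R c - (algebraMap k R a * t₀ + algebraMap k R b * x) ∈ m ^ 2
    rw [hAB, show A * t₀ + B' * x - (algebraMap k R a * t₀ + algebraMap k R b * x) =
      (A - algebraMap k R a) * t₀ + (B' - algebraMap k R b) * x by ring, pow_two]
    exact add_mem (Ideal.mul_mem_mul ha (hLm 1)) (Ideal.mul_mem_mul hb (hLm e))
  choose co hco using hcoef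
  have hco_uniq : ∀ r (p : k × k × k),
      r - algebraMap k R p.1 - (algebraMap k R p.2.1 * t₀ + algebraMap k R p.2.2 * x) ∈ m ^ 2 → co r = p := by
    intro r p hp
    have hdiff := sub_mem hp (hco r)
    have hq : ∀ (q : Ideal B), q.IsMaximal → ∀ c : k, algebraMap k B c ∈ q → c = 0 := fun q hq c hc => by
      by_contra hne
      exact hq.ne_top (Ideal.eq_top_of_isUnit_mem _ hc ((IsUnit.mk0 _ hne).map _))
    set a := (co r).2.1 - p.2.1
    set b := (co r).2.2 - p.2.2
    have hc : (co r).1 - p.1 = 0 := by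
      by_contra hne
      refine (IsLocalRing.maximalIdeal.isMaximal R).ne_top (Ideal.eq_top_of_isUnit_mem _ ?_
        ((IsUnit.mk0 _ hne).map (algebraMap k R)))
      have h1 : algebraMap k R ((co r).1 - p.1) + (algebraMap k R a * t₀ + algebraMap k R b * x) ∈ m := by
        refine Ideal.pow_le_self two_ne_zero ?_
        convert hdiff using 1
        simp only [a, b, map_sub]; ring
      have h2 : algebraMap k R a * t₀ + algebraMap k R b * x ∈ m :=
        add_mem (Ideal.mul_mem_left _ _ (hLm 1)) (Ideal.mul_mem_left _ _ (hLm e))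
      have h3 := sub_mem h1 h2
      rwa [add_sub_cancel_right] at h3
    have h3 : algebraMap k R a * t₀ + algebraMap k R b * x ∈ m ^ 2 := by
      convert hdiff using 1
      rw [sub_eq_zero] at hc
      simp only [a, b, map_sub, hc]; ring
    obtain ⟨z, hz⟩ := hm2' _ h3
    have h4 : algebraMap k B a + algebraMap k B b * e = t * z := by
      refine sub_eq_zero.1 (h.nzd _ ?_)
      rw [map_add, map_mul, map_mul, ht₀, hLι, ← IsScalarTower.algebraMap_apply,
        ← IsScalarTower.algebraMap_apply] at hz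
      linear_combination hz
    have ha0 : a = 0 := hq q₂ h.prime₂ a (by
      rw [show algebraMap k B a = t * z - algebraMap k B b * e by linear_combination h4]
      exact sub_mem (Ideal.mul_mem_right _ _ h.t_mem.2) (Ideal.mul_mem_left _ _ he2))
    have ha0' : algebraMap k B a = 0 := by rw [ha0, map_zero]
    have hb0 : b = 0 := hq q₁ h.prime₁ b (by
      rw [show algebraMap k B b = t * z - algebraMap k B b * (e - 1) by
        linear_combination h4 - ha0']
      exact sub_mem (Ideal.mul_mem_right _ _ h.t_mem.1) (Ideal.mul_mem_left _ _ he1))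
    exact Prod.ext (sub_eq_zero.1 hc) (Prod.ext (sub_eq_zero.1 ha0) (sub_eq_zero.1 hb0))
  have hco_k : ∀ c : k, co (algebraMap k R c) = (c, 0, 0) := fun c => hco_uniq _ _ (by simp)
  have hco_add : ∀ r s, co (r + s) = co r + co s := fun r s => hco_uniq _ _ (by
    convert add_mem (hco r) (hco s) using 1
    simp only [Prod.fst_add, Prod.snd_add, map_add]; ring)
  have hco_mul : ∀ r s, co (r * s) = ((co r).1 * (co s).1, (co r).1 * (co s).2.1 + (co s).1 * (co r).2.1,
      (co r).1 * (co s).2.2 + (co s).1 * (co r).2.2) := fun r s => hco_uniq _ _ (by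
    let ρ := algebraMap k R (co r).2.1 * t₀ + algebraMap k R (co r).2.2 * x
    let σ := algebraMap k R (co s).2.1 * t₀ + algebraMap k R (co s).2.2 * x
    let εr := r - algebraMap k R (co r).1 - ρ
    let εs := s - algebraMap k R (co s).1 - σ
    have hρ : ρ ∈ m := add_mem (Ideal.mul_mem_left _ _ (hLm 1)) (Ideal.mul_mem_left _ _ (hLm e))
    have hσ : σ ∈ m := add_mem (Ideal.mul_mem_left _ _ (hLm 1)) (Ideal.mul_mem_left _ _ (hLm e))
    have hall : εr * s + (algebraMap k R (co r).1 + ρ) * εs + ρ * σ ∈ m ^ 2 :=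
      add_mem (add_mem (Ideal.mul_mem_right _ _ (hco r)) (Ideal.mul_mem_left _ _ (hco s)))
        (by rw [pow_two]; exact Ideal.mul_mem_mul hρ hσ)
    convert hall using 1
    simp only [εr, εs, ρ, σ, map_add, map_mul]; ring)
  let act : R →+* Module.End k (k × k × k) :=
    { toFun := fun r =>
        { toFun := fun p => ((co r).1 * p.1, (co r).1 * p.2.1,
            (co r).1 * p.2.2 + ((co r).2.1 * p.2.1 - (co r).2.2 * p.1))
          map_add' := fun p q => by simp only [Prod.fst_add, Prod.snd_add]; ext <;> simp <;> ring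
          map_smul' := fun c p => by
            simp only [Prod.smul_fst, Prod.smul_snd, smul_eq_mul, RingHom.id_apply]
            ext <;> simp <;> ring }
      map_one' := by
        have h1 : co 1 = (1, 0, 0) := by simpa using hco_k 1
        refine LinearMap.ext fun p => ?_
        simp [h1]
      map_mul' := fun r s => by
        refine LinearMap.ext fun p => ?_
        simp [hco_mul]
        refine ⟨by ring, by ring, by ring⟩
      map_zero' := by
        have h1 : co 0 = (0, 0, 0) := by simpa using hco_k 0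
        refine LinearMap.ext fun p => ?_
        simp [h1]
      map_add' := fun r s => by
        refine LinearMap.ext fun p => ?_
        simp [hco_add]
        refine ⟨by ring, by ring, by ring⟩ }
  letI : Module R (k × k × k) := Module.compHom _ act
  haveI : IsScalarTower k R (k × k × k) := IsScalarTower.of_algebraMap_smul fun c p => by
    show act (algebraMap k R c) p = c • p
    simp [act, hco_k]
    ext <;> simp
  let δ : Derivation k R (k × k × k) := Derivation.mk'
    { toFun := fun r => ((co r).2.1, (co r).2.2, 0)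
      map_add' := fun r s => by simp [hco_add]
      map_smul' := fun c r => by simp [Algebra.smul_def, hco_mul, hco_k] }
    (fun r s => by
      show ((co (r * s)).2.1, (co (r * s)).2.2, (0 : k)) =
        act r ((co s).2.1, (co s).2.2, 0) + act s ((co r).2.1, (co r).2.2, 0)
      simp [act, hco_mul]
      ring)
  have hx1 : co x = (0, 0, 1) := hco_uniq _ _ (by simp)
  have ht1 : co t₀ = (0, 1, 0) := hco_uniq _ _ (by simp)
  have hLu : co (L (e * u₁)) = (0, 0, 1) := hco_uniq _ _ (by
    obtain ⟨w, hw⟩ : ∃ w, e * u₁ - e = t * w := by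
      obtain ⟨w, hw⟩ := Ideal.mem_span_singleton'.1
        (h.gen ▸ (show e * e - e ∈ q₁ ⊓ q₂ from hc₀ ▸ h.le c₀ hc₀m) : e * e - e ∈ Ideal.span {t})
      exact ⟨w + e * ν, by simp only [u₁]; linear_combination -hw⟩
    refine hm2 _ w ?_
    simp only [map_zero, zero_mul, sub_zero, zero_add, map_one, one_mul, map_sub]
    rw [hLι, hLι]
    linear_combination t * hw)
  have hne : κ ≠ 0 := fun h0 => by
    have h1 := congrArg δ.liftKaehlerDifferential h0
    simp only [κ, map_sub, map_smul, Derivation.liftKaehlerDifferential_comp_D, map_zero, d] at h1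
    change act x (δ x) - act (L (e * u₁)) (δ t₀) = 0 at h1
    simp [act, δ, hx1, ht1, hLu] at h1
  -- conclusion
  let K := LinearMap.ker f
  haveI : IsSimpleModule R K := by
    let φ : R →ₗ[R] K := LinearMap.toSpanSingleton R K ⟨κ, hκ⟩
    have hφ : Function.Surjective φ := fun w => by
      obtain ⟨s, hs⟩ := hker w.1 w.2
      exact ⟨s, Subtype.ext hs.symm⟩
    have hkerφ : LinearMap.ker φ = m := by
      refine le_antisymm (fun r hr => ?_) fun r hr => Subtype.ext (hκm r hr)
      by_contra hrm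
      obtain ⟨r', hr'⟩ := (IsLocalRing.notMem_maximalIdeal.1 hrm).exists_left_inv
      have h1 : r • κ = 0 := congrArg Subtype.val hr
      exact hne (by rw [← one_smul R κ, ← hr', mul_smul, h1, smul_zero])
    haveI : IsSimpleModule R (R ⧸ LinearMap.ker φ) := by
      rw [hkerφ, isSimpleModule_iff_isCoatom]
      exact (IsLocalRing.maximalIdeal.isMaximal R).out
    exact IsSimpleModule.congr (φ.quotKerEquivOfSurjective hφ).symm
  exact Module.length_eq_one_iff.2 ‹_›

end Groth.L21.NodalExt
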