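import Groth.Agent.L21.TFNodal.NodePush
import Groth.Agent.L21.CurveDual.Reduced
import Groth.Agent.L21.CurveAdj.Nodal
import Groth.Agent.L00.NagataNorm
import Groth.Agent.L06.MulticrossApps
import Groth.Agent.L06.NormalAscent
import Groth.Agent.L05.NeronFinite.Normalization
import Groth.Agent.L05.OmegaRank.Regular
import Groth.Agent.L15.CohFlat

/-!
The normalisation of a nodal curve exists and is smooth.
-/

set_option autoImplicit false
set_option backward.isDefEq.respectTransparency false
set_option linter.style.haveILetI false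

universe u

open CategoryTheory CategoryTheory.Limits AlgebraicGeometry TopologicalSpace

noncomputable section

namespace Groth.L21.NodalExt

open Groth.L21.TFNodal (Setting)

theorem isIso_fromNormalization_restrict {X Y : Scheme.{u}} (g : X ⟶ Y) [QuasiCompact g]
    [QuasiSeparated g] (V : Y.Opens) (hV : IsIso (g ∣_ V)) : IsIso (g.fromNormalization ∣_ V) := by
  haveI : IsIso (pullback.snd g V.ι) := by
    have e : pullback.snd g V.ι = (pullbackRestrictIsoRestrict g V).hom ≫ g ∣_ V := by
      simp [morphismRestrict]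
    rw [e]; infer_instance
  have h1 : IsIso ((pullback.snd g V.ι).fromNormalization) := by
    haveI : IsIso ((pullback.snd g V.ι).toNormalization ≫ (pullback.snd g V.ι).fromNormalization) := by
      rw [Scheme.Hom.toNormalization_fromNormalization]; infer_instance
    exact IsIso.of_isIso_comp_left (pullback.snd g V.ι).toNormalization _
  haveI : IsIso (g.normalizationPullback V.ι ≫ pullback.snd _ _) := by
    rw [Scheme.Hom.normalizationPullback_snd]; exact h1
  haveI : IsIso (pullback.snd g.fromNormalization V.ι) := IsIso.of_isIso_comp_left (g.normalizationPullback V.ι) _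
  rw [morphismRestrict]; infer_instance

/-- The local rings of a normal curve are principal and regular. -/
theorem pid_regular_stalk {Y : Scheme.{u}} [IsLocallyNoetherian Y] (hY : Pi1.IsNormalScheme Y)
    (hd : topologicalKrullDim Y ≤ 1) (y : Y) :
    IsPrincipalIdealRing (Y.presheaf.stalk y) ∧ IsRegularLocalRing (Y.presheaf.stalk y) := by
  haveI := (hY y).1
  haveI := (hY y).2
  have hle : ringKrullDim (Y.presheaf.stalk y) ≤ 1 := (Groth.L15.CohFlat.ringKrullDim_stalk_le y).trans hd
  haveI : Ring.KrullDimLE 1 (Y.presheaf.stalk y) := Ring.krullDimLE_iff.2 hle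
  have htfae : (IsIntegrallyClosed (Y.presheaf.stalk y) ∧ ∀ P : Ideal (Y.presheaf.stalk y), P ≠ ⊥ → P.IsPrime →
      P = IsLocalRing.maximalIdeal _) ↔ IsPrincipalIdealRing (Y.presheaf.stalk y) :=
    (tfae_of_isNoetherianRing_of_isLocalRing_of_isDomain (Y.presheaf.stalk y)).out 3 0
  refine ⟨htfae.mp ⟨inferInstance, fun P hP hP' => ?_⟩, Groth.L06.NormalAscent.regular_of_normal_dim_le_one hle⟩
  haveI := hP'
  exact IsLocalRing.eq_maximalIdeal (Ring.krullDimLE_one_iff_of_noZeroDivisors.mp
    ‹Ring.KrullDimLE 1 (Y.presheaf.stalk y)› P hP hP')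

variable (k : Type u) [Field k] {X : Scheme.{u}} [X.Over (Spec (CommRingCat.of k))]

/-- The normalisation. -/
theorem exists_setting [IsAlgClosed k] [IsProper (X ↘ Spec (CommRingCat.of k))] [ConnectedSpace X]
    (hdim : topologicalKrullDim X = 1) (hnod : Curv2.AtWorstNodal k X) :
    ∃ (Y : Scheme.{u}) (π : Y ⟶ X) (U : X.Opens), Setting k X Y π U ∧
      Smooth (π ≫ (X ↘ Spec (CommRingCat.of k))) ∧ topologicalKrullDim Y ≤ 1 := by
  haveI := Groth.L21.RR.isNoetherian_of_proper (X := X) k
  have hd := Groth.L21.NormRed.dim_components k hdim (X := X)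
  haveI := Groth.L21.NormRed.isReduced_of_atWorstNodal k hd hnod
  let q := X ↘ Spec (CommRingCat.of k)
  haveI : LocallyOfFinitePresentation q := LocallyOfFinitePresentation.iff_locallyOfFiniteType.2 inferInstance
  let U : X.Opens := q.smoothLocus
  haveI hsm : Smooth (U.ι ≫ q) := by
    rw [← Scheme.Hom.smoothLocus_eq_top_iff, ← Scheme.Hom.preimage_smoothLocus_eq]
    exact top_le_iff.1 fun w _ => w.2
  have hmem : ∀ V : X.Opens, Smooth (V.ι ≫ q) → V ≤ U := fun V hV x hx => by
    haveI := hV
    have h1 : (⟨x, hx⟩ : V.toScheme) ∈ (V.ι ≫ q).smoothLocus := by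
      rw [Scheme.Hom.smoothLocus_eq_top]; trivial
    rw [← Scheme.Hom.preimage_smoothLocus_eq] at h1
    exact h1
  have hU : ∀ x : X, x ∈ U ↔ ¬ Curv2.IsNode k X x := fun x => by
    refine ⟨fun hx hn => ?_, fun hn => ?_⟩
    · have e := (U.stalkIso ⟨x, hx⟩).commRingCatIsoToRingEquiv
      haveI := Groth.L21.Smooth.isDomain_stalk (U.ι ≫ q) ⟨x, hx⟩
      haveI := Groth.L21.Smooth.isIntegrallyClosed_stalk (U.ι ≫ q) ⟨x, hx⟩
      haveI : IsDomain (X.presheaf.stalk x) := e.symm.toMulEquiv.isDomain _
      haveI : IsIntegrallyClosed (X.presheaf.stalk x) := IsIntegrallyClosed.of_equiv e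
      have h1 := Groth.L21.NormRed.deltaInv_of_isNode k hd hn
      rw [Groth.L21.NormRed.deltaInv_eq_zero_of_isIntegrallyClosed] at h1
      exact zero_ne_one h1
    · by_cases hc : IsClosed ({x} : Set X)
      · obtain ⟨V, hxV, hV⟩ := (hnod x hc).resolve_right hn
        exact hmem V hV hxV
      · have hmax : ∀ y : X, y ⤳ x → y = x := fun y hy =>
          Groth.L22.CurveDeg.eq_of_specializes_nonclosed hdim.le hc hy
        obtain ⟨V, hxV, hV⟩ := Groth.L21.Nodal.exists_smooth_nhd_of_maximal q x hmax
        exact hmem V hV hxV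
  have hnU : Pi1.IsNormalScheme U.toScheme := fun x =>
    ⟨Groth.L21.Smooth.isDomain_stalk (U.ι ≫ q) x, Groth.L21.Smooth.isIntegrallyClosed_stalk (U.ι ≫ q) x⟩
  haveI : NoetherianSpace U.toScheme := U.ι.isOpenEmbedding.isInducing.noetherianSpace
  haveI : IsLocallyNoetherian U.toScheme := inferInstance
  haveI : AlgebraicGeometry.IsNoetherian U.toScheme := {}
  haveI : AlgebraicGeometry.IsReduced U.toScheme := isReduced_of_isOpenImmersion U.ι
  haveI : QuasiCompact U.ι := inferInstance
  have hN : ∀ V : X.affineOpens, CAlg.IsNagata Γ(X, V) := fun V => by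
    letI : Algebra k Γ(X, V.1) := (Groth.L22.SchemeDim.sectHom k X V.1).toAlgebra
    haveI : Algebra.FiniteType k Γ(X, V.1) :=
      RingHom.finiteType_algebraMap.1 (Groth.L22.SchemeDim.finiteType_sectHom k X V.2)
    exact Groth.L01.Nagata.isNagata_of_finiteType (R := k) (Groth.L18.NormField.isNagata_field k)
  let π := U.ι.fromNormalization
  haveI : IsFinite π := Groth.L00.NagataNorm.isFinite_fromNormalization_of_finiteType U.ι hN
  have hnY : Pi1.IsNormalScheme U.ι.normalization := Groth.L05.NeronFinite.isNormalScheme_normalization hnU U.ι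
  have hdY : topologicalKrullDim U.ι.normalization ≤ 1 :=
    (Groth.L19.topologicalKrullDim_le_of_isIntegralHom π).trans hdim.le
  haveI : IsLocallyNoetherian U.ι.normalization := LocallyOfFiniteType.isLocallyNoetherian π
  haveI : LocallyOfFinitePresentation (π ≫ q) :=
    LocallyOfFinitePresentation.iff_locallyOfFiniteType.2 inferInstance
  have hsY : Smooth (π ≫ q) := by
    rw [← Scheme.Hom.smoothLocus_eq_top_iff, ← top_le_iff]
    exact fun y _ =>
      Groth.L05.OmegaRank.mem_smoothLocus_of_regular_stalk (π ≫ q) y (pid_regular_stalk hnY hdY y).2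
  have hιU : IsIso (U.ι ∣_ U) := by
    apply +allowSynthFailures isIso_of_isOpenImmersion_of_opensRange_eq_top
    refine eq_top_iff.mpr fun y _ => ⟨⟨⟨y.1, y.2⟩, y.2⟩, U.ι.isOpenEmbedding.injective ?_⟩
    exact congr($(morphismRestrict_ι U.ι U) ⟨⟨y.1, y.2⟩, y.2⟩)
  haveI hiso : IsIso (π ∣_ U) := isIso_fromNormalization_restrict U.ι U hιU
  refine ⟨_, π, U, { hdim := hd, hnorm := hnY, hUd := fun x => ?_, hUd' := ?_, hU := hU }, hsY, hdY⟩
  · obtain ⟨w, hw, hwx⟩ := Groth.L21.CurveDual.exists_nonclosed_gen hdim x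
    exact closure_mono (Set.singleton_subset_iff.2 (show w ∈ (U : Set X) from (hU w).2 fun h => hw h.1))
      (specializes_iff_mem_closure.1 hwx)
  · refine Dense.mono ?_ U.ι.toNormalization.denseRange
    rintro _ ⟨z, rfl⟩
    show π (U.ι.toNormalization z) ∈ U
    rw [← Scheme.Hom.comp_apply, Scheme.Hom.toNormalization_fromNormalization]
    exact z.2

end Groth.L21.NodalExt
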