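import Groth.Agent.L21.NodalExt.NodeAlg
import Groth.Agent.L21.NodalExt.Beta
import Groth.Agent.L21.NodalExt.Normalization
import Groth.Agent.L21.TFNodal.NodeRad
import Groth.Agent.L20.PushStalk
import Groth.Agent.L21.Curve.EtalePoint
import Mathlib.RingTheory.Etale.Kaehler
import Mathlib.RingTheory.Localization.LocalizationLocalization
import Mathlib.RingTheory.Jacobson.Ring

/-!
The stalks of `Ω_X ⟶ π_* Ω_Y` for the normalisation of a nodal curve.
-/

set_option autoImplicit false
set_option backward.isDefEq.respectTransparency false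
set_option backward.isDefEq.respectTransparency.types false
set_option linter.style.haveILetI false
set_option maxSynthPendingDepth 3

universe u

open CategoryTheory CategoryTheory.Limits AlgebraicGeometry TopologicalSpace Opposite IsLocalRing
open scoped TensorProduct

noncomputable section

namespace Groth.L21.NodalExt

open Groth.L21.TFNodal (Setting node_facts node_rad)
open _root_.OmegaSh (dSect)

/-- Two localisations of the same map have the same kernel, and are surjective together. -/
theorem localized_compare {A R : Type u} [CommRing A] [CommRing R] [Algebra A R] (S : Submonoid A)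
    [IsLocalization S R] {M N M' N' M'' N'' : Type u} [AddCommGroup M] [AddCommGroup N] [AddCommGroup M']
    [AddCommGroup N'] [AddCommGroup M''] [AddCommGroup N''] [Module A M] [Module A N] [Module A M'] [Module A N']
    [Module A M''] [Module A N''] [Module R M'] [Module R N'] [Module R M''] [Module R N''] [IsScalarTower A R M']
    [IsScalarTower A R N'] [IsScalarTower A R M''] [IsScalarTower A R N'']
    (g : M →ₗ[A] M') (h : N →ₗ[A] N') (g' : M →ₗ[A] M'') (h' : N →ₗ[A] N'')
    [IsLocalizedModule S g] [IsLocalizedModule S h] [IsLocalizedModule S g'] [IsLocalizedModule S h']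
    (w : M →ₗ[A] N) (φ : M' →ₗ[R] N') (φ' : M'' →ₗ[R] N'') (hφ : ∀ z, φ (g z) = h (w z))
    (hφ' : ∀ z, φ' (g' z) = h' (w z)) :
    Module.length R (LinearMap.ker φ) = Module.length R (LinearMap.ker φ') ∧
      (Function.Surjective φ' → Function.Surjective φ) := by
  let a := (IsLocalizedModule.linearEquiv S g g').extendScalarsOfIsLocalization S R
  let b := (IsLocalizedModule.linearEquiv S h h').extendScalarsOfIsLocalization S R
  have hc : ∀ z, φ' (a z) = b (φ z) := by
    have hu : ∀ x : S, IsUnit ((algebraMap A (Module.End A N'')) x) := IsLocalizedModule.map_units h'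
    have := IsLocalizedModule.ext S g hu
      (j := (φ'.restrictScalars A) ∘ₗ (a.toLinearMap.restrictScalars A))
      (k := (b.toLinearMap.restrictScalars A) ∘ₗ (φ.restrictScalars A)) (LinearMap.ext fun z => ?_)
    · exact fun z => LinearMap.congr_fun this z
    · show φ' (IsLocalizedModule.linearEquiv S g g' (g z)) = IsLocalizedModule.linearEquiv S h h' (φ (g z))
      rw [IsLocalizedModule.linearEquiv_apply, hφ, IsLocalizedModule.linearEquiv_apply, hφ']
  refine ⟨(a.ofSubmodules (LinearMap.ker φ) (LinearMap.ker φ') ?_).length_eq, fun hs z => ?_⟩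
  · ext z
    rw [Submodule.mem_map, LinearMap.mem_ker]
    refine ⟨?_, fun hz => ⟨a.symm z, ?_, a.apply_symm_apply z⟩⟩
    · rintro ⟨y, hy, rfl⟩
      show φ' (a y) = 0
      rw [hc, LinearMap.mem_ker.1 hy, map_zero]
    · rw [LinearMap.mem_ker, ← b.map_eq_zero_iff, ← hc, a.apply_symm_apply]
      exact hz
  · obtain ⟨y, hy⟩ := hs (b z)
    exact ⟨a.symm y, b.injective (by rw [← hc, a.apply_symm_apply, hy])⟩

/-- A localisation at the image submonoid is one at the submonoid. -/
theorem isLocalizedModule_restrict {A B : Type u} [CommRing A] [CommRing B] [Algebra A B] (S : Submonoid A)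
    {M N : Type u} [AddCommGroup M] [AddCommGroup N] [Module A M] [Module B M] [IsScalarTower A B M]
    [Module A N] [Module B N] [IsScalarTower A B N] (g : M →ₗ[B] N)
    [IsLocalizedModule (Algebra.algebraMapSubmonoid B S) g] :
    IsLocalizedModule S (g.restrictScalars A) := by
  let T := Algebra.algebraMapSubmonoid B S
  refine (isLocalizedModule_iff _ _).mpr ⟨fun s => ?_, fun z => ?_, fun {m₁ m₂} he => ?_⟩
  · have hu := (Module.End.isUnit_iff _).1 (IsLocalizedModule.map_units g
      (⟨algebraMap A B s, s, s.2, rfl⟩ : T))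
    rw [Module.End.isUnit_iff]
    have e : (fun z : N => (s : A) • z) = fun z : N => algebraMap A B s • z :=
      funext fun z => (algebraMap_smul B (s : A) z).symm
    show Function.Bijective fun z : N => (s : A) • z
    rw [e]; exact hu
  · obtain ⟨⟨m, ⟨_, s, hs, rfl⟩⟩, hm⟩ := IsLocalizedModule.surj T g z
    exact ⟨⟨m, ⟨s, hs⟩⟩, (algebraMap_smul B s z).symm.trans hm⟩
  · obtain ⟨⟨_, s, hs, rfl⟩, hc⟩ := IsLocalizedModule.exists_of_eq (S := T) (f := g) he
    exact ⟨⟨s, hs⟩, (algebraMap_smul B s m₁).symm.trans (hc.trans (algebraMap_smul B s m₂))⟩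

/-- A maximal ideal of an algebra of finite type over an algebraically closed field has trivial residues. -/
theorem exists_sub_mem {k A : Type u} [Field k] [IsAlgClosed k] [CommRing A] [Algebra k A] [Algebra.FiniteType k A]
    (p : Ideal A) [p.IsMaximal] (a : A) : ∃ c : k, a - algebraMap k A c ∈ p := by
  letI := Ideal.Quotient.field p
  haveI : Algebra.FiniteType k (A ⧸ p) :=
    Algebra.FiniteType.of_surjective (Ideal.Quotient.mkₐ k p) (Ideal.Quotient.mkₐ_surjective k p)
  haveI : Module.Finite k (A ⧸ p) := finite_of_finite_type_of_isJacobsonRing k (A ⧸ p)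
  obtain ⟨c, hc⟩ := (IsAlgClosed.algebraMap_bijective_of_isIntegral (k := k) (K := A ⧸ p)).2 (Ideal.Quotient.mk p a)
  exact ⟨c, Ideal.Quotient.eq.1 (hc.symm.trans rfl)⟩

/-- Residues of a localisation. -/
theorem exists_sub_mem_localization {k A R : Type u} [Field k] [CommRing A] [Algebra k A] [CommRing R]
    [Algebra A R] [Algebra k R] [IsScalarTower k A R] (S : Submonoid A) [IsLocalization S R] (q : Ideal R)
    [q.IsPrime] (hres : ∀ a : A, ∃ c : k, a - algebraMap k A c ∈ q.comap (algebraMap A R)) (r : R) :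
    ∃ c : k, r - algebraMap k R c ∈ q := by
  obtain ⟨⟨a, s⟩, hs⟩ := IsLocalization.surj S r
  obtain ⟨ca, ha⟩ := hres a
  obtain ⟨cs, hcs⟩ := hres (s : A)
  have hsq : algebraMap A R s ∉ q := fun h => Ideal.IsPrime.ne_top inferInstance
    (Ideal.eq_top_of_isUnit_mem _ h (IsLocalization.map_units R s))
  have hcs0 : cs ≠ 0 := fun h0 => hsq (by simpa [h0] using hcs)
  refine ⟨ca / cs, (Ideal.IsPrime.mem_or_mem (I := q) inferInstance (y := algebraMap A R s) ?_).resolve_right hsq⟩
  rw [Ideal.mem_comap, map_sub, ← IsScalarTower.algebraMap_apply] at ha hcs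
  rw [sub_mul, hs]
  have h1 : algebraMap k R (ca / cs) * algebraMap k R cs = algebraMap k R ca := by
    rw [← map_mul, div_mul_cancel₀ _ hcs0]
  have : algebraMap A R a - algebraMap k R (ca / cs) * algebraMap A R s =
      (algebraMap A R a - algebraMap k R ca) - algebraMap k R (ca / cs) * (algebraMap A R s - algebraMap k R cs) := by
    linear_combination -h1
  rw [this]
  exact sub_mem ha (Ideal.mul_mem_left _ _ hcs)

variable {k : Type u} [Field k] {X Y : Scheme.{u}} [X.Over (Spec (CommRingCat.of k))] {π : Y ⟶ X} {U : X.Opens}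

variable [IsProper (X ↘ Spec (CommRingCat.of k))] [QuasiSeparated (π ≫ (X ↘ Spec (CommRingCat.of k)))]
  {β : Omega.sheaf (X ↘ Spec (CommRingCat.of k)) ⟶ (Scheme.Modules.pushforward π).obj (Omega.sheaf (π ≫ (X ↘ Spec (CommRingCat.of k))))}
  (hβ : ∀ (V : X.Opens) (a : Γ(X, V)), β.app V (dSect (X ↘ Spec (CommRingCat.of k)) V a) = dSect (π ≫ (X ↘ Spec (CommRingCat.of k))) (π ⁻¹ᵁ V) (π.app V a))
  (h : Setting k X Y π U)

include hβ h in
theorem bijective_stalk_of_mem [LocallyOfFiniteType (π ≫ (X ↘ Spec (CommRingCat.of k)))] {x : X} (hx : x ∈ U) :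
    Function.Bijective ((Groth.L00.Stk.F X x).map β).hom := by
  haveI := h.finite; haveI := h.iso
  obtain ⟨V, hV, hxV, hVU⟩ := exists_isAffineOpen_mem_and_subset (x := x) (U := U) hx
  haveI := Groth.L07.BlowLib.isIso_app_of_le π (C := U) inferInstance V hVU
  let A := Γ(X, V)
  let BV := Γ(Y, π ⁻¹ᵁ V)
  letI := (scal (X ↘ Spec (CommRingCat.of k)) V).toAlgebra
  letI := (scal (π ≫ (X ↘ Spec (CommRingCat.of k))) (π ⁻¹ᵁ V)).toAlgebra
  letI algAB := (π.app V).hom.toAlgebra
  haveI := isScalarTower_scal (X ↘ Spec (CommRingCat.of k)) π V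
  have hbij : Function.Bijective (algebraMap A BV) := ConcreteCategory.bijective_of_isIso (π.app V)
  haveI : IsLocalization (⊥ : Submonoid A) BV := by
    refine (isLocalization_iff _ _).2 ⟨fun s => ?_, fun z => ?_, fun {a b} e => ⟨1, by rw [hbij.1 e]⟩⟩
    · rw [Submonoid.mem_bot.1 s.2, map_one]; exact isUnit_one
    · obtain ⟨a, rfl⟩ := hbij.2 z
      exact ⟨⟨a, 1⟩, by simp⟩
  let um := KaehlerDifferential.map k k A BV
  haveI : IsLocalizedModule (⊥ : Submonoid A) um := KaehlerDifferential.isLocalizedModule_map k A BV ⊥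
  have hum : Function.Bijective um := by
    refine ⟨fun a b e => ?_, fun z => ?_⟩
    · obtain ⟨s, hs⟩ := IsLocalizedModule.exists_of_eq (S := (⊥ : Submonoid A)) (f := um) e
      simpa [Submonoid.mem_bot.1 s.2, Submonoid.smul_def] using hs
    · obtain ⟨⟨a, s⟩, hs⟩ := IsLocalizedModule.surj (⊥ : Submonoid A) um z
      exact ⟨a, by simpa [Submonoid.mem_bot.1 s.2, Submonoid.smul_def] using hs.symm⟩
  have hV' : IsAffineOpen (π ⁻¹ᵁ V) := hV.preimage π
  have hsX := bijective_secMap (X ↘ Spec (CommRingCat.of k)) hV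
  have hsY := bijective_secMap (π ≫ (X ↘ Spec (CommRingCat.of k))) hV'
  have hu : Function.Bijective (β.app V) := by
    refine ⟨fun a b e => ?_, fun z => ?_⟩
    · obtain ⟨a, rfl⟩ := hsX.2 a
      obtain ⟨b, rfl⟩ := hsX.2 b
      rw [beta_secMap hβ V, beta_secMap hβ V] at e
      rw [hum.1 (hsY.1 e)]
    · obtain ⟨w, rfl⟩ := hsY.2 z
      obtain ⟨a, rfl⟩ := hum.2 w
      exact ⟨_, beta_secMap hβ V a⟩
  haveI : Coh.IsQCoh (Omega.sheaf (X ↘ Spec (CommRingCat.of k))) := (Groth.L15.OmegaCoh.isCoh_omega _).1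
  haveI : Coh.IsQCoh (Omega.sheaf (π ≫ (X ↘ Spec (CommRingCat.of k)))) := (Groth.L15.OmegaCoh.isCoh_omega _).1
  let F := Omega.sheaf (X ↘ Spec (CommRingCat.of k))
  let P := (Scheme.Modules.pushforward π).obj (Omega.sheaf (π ≫ (X ↘ Spec (CommRingCat.of k))))
  let S := (hV.primeIdealOf ⟨x, hxV⟩).asIdeal.primeCompl
  letI := Groth.L20.ModStalk.stalkModule F hxV
  letI := Groth.L20.ModStalk.stalkModule P hxV
  haveI := Groth.L20.ModStalk.isLocalizedModule_germ F hV hxV
  haveI := Groth.L20.ModStalk.isLocalizedModule_germ_push π (Omega.sheaf (π ≫ (X ↘ Spec (CommRingCat.of k)))) hV hV' hxV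
  let gF := Groth.L20.ModStalk.germₗ F hxV
  let gP := Groth.L20.ModStalk.germₗ P hxV
  have hc : ∀ s, ((Groth.L00.Stk.F X x).map β).hom (gF s) = gP (β.app V s) := fun s =>
    Groth.L21.Mod.stalkF_map_germ β V x hxV s
  let ω : F.presheaf.stalk x →ₗ[X.presheaf.stalk x] P.presheaf.stalk x := ((Groth.L00.Stk.F X x).map β).hom
  have hωs : ∀ (s : A) z, ω (s • z) = s • ω z := fun s z => ω.map_smul (X.presheaf.germ V x hxV s) z
  show Function.Bijective ω
  refine ⟨fun y₁ y₂ e => ?_, fun z => ?_⟩
  · obtain ⟨⟨m₁, s₁⟩, h₁⟩ := IsLocalizedModule.surj S gF y₁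
    obtain ⟨⟨m₂, s₂⟩, h₂⟩ := IsLocalizedModule.surj S gF y₂
    have h₁' : (s₁ : A) • y₁ = gF m₁ := h₁
    have h₂' : (s₂ : A) • y₂ = gF m₂ := h₂
    have e1 : gP (β.app V ((s₂ : A) • m₁)) = gP (β.app V ((s₁ : A) • m₂)) := by
      rw [← hc, ← hc, map_smul gF, map_smul gF, ← h₁', ← h₂', smul_comm (s₁ : A) (s₂ : A)]
      show ω _ = ω _
      rw [hωs, hωs, hωs, hωs, e]
    obtain ⟨w, hw⟩ := IsLocalizedModule.exists_of_eq (S := S) (f := gP) e1
    have hw' : β.app V ((w : A) • (s₂ : A) • m₁) = β.app V ((w : A) • (s₁ : A) • m₂) :=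
      (β.app_smul _ _).trans (hw.trans (β.app_smul _ _).symm)
    have h3 := congrArg gF (hu.1 hw')
    rw [map_smul, map_smul, map_smul, map_smul, ← h₁', ← h₂', smul_comm (s₂ : A) (s₁ : A)] at h3
    exact IsLocalizedModule.smul_injective gF s₂ (IsLocalizedModule.smul_injective gF s₁
      (IsLocalizedModule.smul_injective gF w h3))
  · obtain ⟨⟨m, s⟩, hm⟩ := IsLocalizedModule.surj S gP z
    obtain ⟨m', rfl⟩ := hu.2 m
    obtain ⟨i, hi⟩ := ((Module.End.isUnit_iff _).1 (IsLocalizedModule.map_units gF s)).2 (gF m')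
    refine ⟨i, IsLocalizedModule.smul_injective gP s ?_⟩
    show (s : A) • ω i = (s : A) • z
    rw [← hωs, show (s : A) • i = gF m' from hi]
    exact (hc m').trans hm.symm

set_option maxHeartbeats 1600000 in
include hβ h in
theorem stalk_at_node [IsAlgClosed k] [Smooth (π ≫ (X ↘ Spec (CommRingCat.of k)))] (hdY : topologicalKrullDim Y ≤ 1) {x : X}
    (hx : Curv2.IsNode k X x) :
    Function.Surjective ((Groth.L00.Stk.F X x).map β).hom ∧
      Module.length (X.presheaf.stalk x) (LinearMap.ker ((Groth.L00.Stk.F X x).map β).hom) = 1 := by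
  haveI := h.finite; haveI := h.reduced; haveI := h.noetherian; haveI := h.iso
  obtain ⟨V, hV, hxV, -⟩ := exists_isAffineOpen_mem_and_subset (x := x) (U := ⊤) trivial
  let A := Γ(X, V)
  let BV := Γ(Y, π ⁻¹ᵁ V)
  have hV' : IsAffineOpen (π ⁻¹ᵁ V) := hV.preimage π
  letI algkA := (scal (X ↘ Spec (CommRingCat.of k)) V).toAlgebra
  letI algkB := (scal (π ≫ (X ↘ Spec (CommRingCat.of k))) (π ⁻¹ᵁ V)).toAlgebra
  letI algAB : Algebra A BV := (π.app V).hom.toAlgebra
  haveI := isScalarTower_scal (X ↘ Spec (CommRingCat.of k)) π V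
  haveI : Module.Finite A BV := π.finite_app V hV
  haveI : Algebra.FiniteType k A := RingHom.finiteType_algebraMap.1
    (((X ↘ Spec (CommRingCat.of k)).finiteType_appLE (isAffineOpen_top _) hV le_top).comp (RingHom.FiniteType.of_surjective _
      (Scheme.ΓSpecIso (CommRingCat.of k)).commRingCatIsoToRingEquiv.symm.surjective))
  haveI : Algebra.FiniteType k BV := RingHom.finiteType_algebraMap.1
    (((π ≫ (X ↘ Spec (CommRingCat.of k))).finiteType_appLE (isAffineOpen_top _) hV' le_top).comp (RingHom.FiniteType.of_surjective _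
      (Scheme.ΓSpecIso (CommRingCat.of k)).commRingCatIsoToRingEquiv.symm.surjective))
  haveI : IsNoetherianRing BV := Algebra.FiniteType.isNoetherianRing k BV
  haveI : Algebra.FormallySmooth k BV := by
    have h1 : ((π ≫ (X ↘ Spec (CommRingCat.of k))).appLE ⊤ (π ⁻¹ᵁ V) le_top).hom.Smooth :=
      (π ≫ (X ↘ Spec (CommRingCat.of k))).smooth_appLE (isAffineOpen_top _) hV' le_top
    have h2 : (Scheme.ΓSpecIso (CommRingCat.of k)).inv.hom.Smooth :=
      RingHom.Smooth.of_bijective (ConcreteCategory.bijective_of_isIso (Scheme.ΓSpecIso (CommRingCat.of k)).inv)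
    have h3 : (algebraMap k BV).Smooth := h2.comp h1
    exact (RingHom.smooth_algebraMap.1 h3).formallySmooth
  let p := (hV.primeIdealOf ⟨x, hxV⟩).asIdeal
  haveI : p.IsMaximal := Groth.L21.EtalePoint.isMaximal_primeIdealOf hV hxV hx.1
  let R := X.presheaf.stalk x
  letI := X.presheaf.algebra_section_stalk ⟨x, hxV⟩
  haveI : IsLocalization.AtPrime R p := hV.isLocalization_stalk ⟨x, hxV⟩
  letI algkR : Algebra k R := ((algebraMap A R).comp (algebraMap k A)).toAlgebra
  haveI : IsScalarTower k A R := IsScalarTower.of_algebraMap_eq fun _ => rfl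
  haveI : IsNoetherianRing A := Algebra.FiniteType.isNoetherianRing k A
  haveI : IsNoetherianRing R := IsLocalization.isNoetherianRing p.primeCompl R inferInstance
  let T := Algebra.algebraMapSubmonoid BV p.primeCompl
  let B := Localization T
  haveI : IsNoetherianRing B := IsLocalization.isNoetherianRing T B inferInstance
  letI algRB : Algebra R B := (IsLocalization.map (S := R) B (algebraMap A BV)
    (show p.primeCompl ≤ T.comap (algebraMap A BV) from fun s hs => ⟨s, hs, rfl⟩)).toAlgebra
  haveI : IsScalarTower A R B := IsScalarTower.of_algebraMap_eq fun a => by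
    show _ = IsLocalization.map B (algebraMap A BV) _ (algebraMap A R a)
    rw [IsLocalization.map_eq, ← IsScalarTower.algebraMap_apply]
  haveI : IsScalarTower k R B := IsScalarTower.of_algebraMap_eq fun c => by
    show _ = algebraMap R B (algebraMap A R (algebraMap k A c))
    rw [← IsScalarTower.algebraMap_apply A R B, IsScalarTower.algebraMap_apply A BV B,
      ← IsScalarTower.algebraMap_apply k A BV, ← IsScalarTower.algebraMap_apply k BV B]
  -- the two maximal ideals
  obtain ⟨q₁', q₂', hq₁', hq₂', hc₁, hc₂, hrad⟩ := node_rad h hx hV hxV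
  haveI := hq₁'; haveI := hq₂'
  haveI : q₁'.IsMaximal := Ideal.isMaximal_of_isIntegral_of_isMaximal_comap q₁' (by rw [hc₁]; infer_instance)
  haveI : q₂'.IsMaximal := Ideal.isMaximal_of_isIntegral_of_isMaximal_comap q₂' (by rw [hc₂]; infer_instance)
  have hdis : ∀ q : Ideal BV, q.comap (algebraMap A BV) = p → Disjoint (T : Set BV) (q : Set BV) := fun q hq => by
    rw [Set.disjoint_left]
    rintro _ ⟨s, hs, rfl⟩ hsq
    exact hs (hq ▸ (hsq : s ∈ q.comap (algebraMap A BV)))
  let q₁ := q₁'.map (algebraMap BV B)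
  let q₂ := q₂'.map (algebraMap BV B)
  have hu₁ : q₁.comap (algebraMap BV B) = q₁' :=
    IsLocalization.comap_map_of_isPrime_disjoint T B inferInstance (hdis _ hc₁)
  have hu₂ : q₂.comap (algebraMap BV B) = q₂' :=
    IsLocalization.comap_map_of_isPrime_disjoint T B inferInstance (hdis _ hc₂)
  haveI : q₁.IsPrime := IsLocalization.isPrime_of_isPrime_disjoint T B q₁' inferInstance (hdis _ hc₁)
  haveI : q₂.IsPrime := IsLocalization.isPrime_of_isPrime_disjoint T B q₂' inferInstance (hdis _ hc₂)
  have hmax₀ : ∀ (q : Ideal B) (q' : Ideal BV), q.IsPrime → q'.IsMaximal → q.comap (algebraMap BV B) = q' →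
      q.IsMaximal := fun q q' hq hq' e => by
    refine ⟨⟨hq.ne_top, fun I hI => ?_⟩⟩
    by_contra hne
    have h1 : I.comap (algebraMap BV B) = q' :=
      (hq'.eq_of_le (Ideal.comap_ne_top _ hne) (e ▸ Ideal.comap_mono hI.le)).symm
    exact hI.ne ((IsLocalization.map_comap T B q).symm.trans
      ((congrArg (Ideal.map (algebraMap BV B)) (e.trans h1.symm)).trans (IsLocalization.map_comap T B I)))
  haveI : q₁.IsMaximal := hmax₀ _ _ inferInstance inferInstance hu₁
  haveI : q₂.IsMaximal := hmax₀ _ _ inferInstance inferInstance hu₂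
  have hres₁ : ∀ z : B, ∃ c : k, z - algebraMap k B c ∈ q₁ := exists_sub_mem_localization T q₁ fun b => by
    rw [hu₁]; exact exists_sub_mem q₁' b
  have hres₂ : ∀ z : B, ∃ c : k, z - algebraMap k B c ∈ q₂ := exists_sub_mem_localization T q₂ fun b => by
    rw [hu₂]; exact exists_sub_mem q₂' b
  have hresR : ∀ r : R, ∃ c : k, r - algebraMap k R c ∈ maximalIdeal R :=
    exists_sub_mem_localization p.primeCompl (maximalIdeal R) fun a => by
      rw [show (maximalIdeal R).comap (algebraMap A R) = p from IsLocalization.AtPrime.comap_maximalIdeal R p]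
      exact exists_sub_mem p a
  have hne : q₁ ≠ q₂ := fun e => by
    have e' : q₁' = q₂' := by rw [← hu₁, e, hu₂]
    have h2 := (node_facts h hx hV hxV).2
    let κ := ResidueField R
    have hspan : (⊤ : Submodule κ (κ ⊗[A] BV)) ≤ Submodule.span κ {(1 : κ) ⊗ₜ[A] (1 : BV)} := by
      rintro z -
      induction z using TensorProduct.induction_on with
      | zero => exact zero_mem _
      | add a b ha hb => exact add_mem ha hb
      | tmul a b =>
        obtain ⟨c, hc⟩ := exists_sub_mem (k := k) q₁' b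
        obtain ⟨s, hs, c', hc', hsc⟩ := hrad (b - algebraMap k BV c) hc (e' ▸ hc)
        have hs0 : algebraMap A κ s ≠ 0 := fun h0 => hs (by
          have : algebraMap A R s ∈ maximalIdeal R := Ideal.Quotient.eq_zero_iff_mem.1 h0
          exact (IsLocalization.AtPrime.to_map_mem_maximal_iff R p s).1 this)
        have hc0 : algebraMap A κ c' = 0 := Ideal.Quotient.eq_zero_iff_mem.2
          ((IsLocalization.AtPrime.to_map_mem_maximal_iff R p c').2 hc')
        have key : a ⊗ₜ[A] (b - algebraMap k BV c) = 0 := by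
          have h1 : a = s • (a * (algebraMap A κ s)⁻¹) := by
            rw [Algebra.smul_def, mul_left_comm, mul_inv_cancel₀ hs0, mul_one]
          rw [h1, TensorProduct.smul_tmul, hsc, Algebra.algebraMap_eq_smul_one c' (A := BV),
            ← TensorProduct.smul_tmul, Algebra.smul_def c', hc0, zero_mul, TensorProduct.zero_tmul]
        rw [TensorProduct.tmul_sub, sub_eq_zero] at key
        rw [key, IsScalarTower.algebraMap_apply k A BV, Algebra.algebraMap_eq_smul_one (algebraMap k A c),
          ← TensorProduct.smul_tmul, Submodule.mem_span_singleton]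
        exact ⟨algebraMap k A c • a, by rw [TensorProduct.smul_tmul', smul_eq_mul, mul_one]⟩
    have h3 := finrank_le_one (R := κ) ((1 : κ) ⊗ₜ[A] (1 : BV))
      (fun z => Submodule.mem_span_singleton.1 (hspan (Submodule.mem_top (x := z))))
    change Module.finrank κ (κ ⊗[A] BV) = 2 at h2
    omega
  have hle : ∀ r ∈ maximalIdeal R, algebraMap R B r ∈ q₁ ∧ algebraMap R B r ∈ q₂ := fun r hr => by
    obtain ⟨⟨a, s⟩, hs⟩ := IsLocalization.surj p.primeCompl r
    have ha : a ∈ p := (IsLocalization.AtPrime.to_map_mem_maximal_iff R p a).1 (hs ▸ Ideal.mul_mem_right _ _ hr)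
    have hsu : IsUnit (algebraMap R B (algebraMap A R (s : A))) := (IsLocalization.map_units R s).map _
    have h1 : ∀ (q : Ideal B) (q' : Ideal BV), q' = q.comap (algebraMap BV B) →
        q'.comap (algebraMap A BV) = p → q.IsPrime → algebraMap R B r ∈ q := fun q q' hq hq' hqp => by
      refine (hqp.mem_or_mem (y := algebraMap R B (algebraMap A R (s : A))) ?_).resolve_right
        fun hh => hqp.ne_top (Ideal.eq_top_of_isUnit_mem _ hh hsu)
      rw [← map_mul, hs, ← IsScalarTower.algebraMap_apply A R B, IsScalarTower.algebraMap_apply A BV B]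
      rw [← hq', hq] at ha
      exact ha
    exact ⟨h1 _ _ hu₁.symm hc₁ inferInstance, h1 _ _ hu₂.symm hc₂ inferInstance⟩
  have hcap : ∀ z, z ∈ q₁ → z ∈ q₂ → ∃ r ∈ maximalIdeal R, algebraMap R B r = z := fun z hz₁ hz₂ => by
    obtain ⟨⟨b, s⟩, hzs⟩ := IsLocalization.surj T z
    have hb₁ : b ∈ q₁' := hu₁ ▸ (show algebraMap BV B b ∈ q₁ from hzs ▸ Ideal.mul_mem_right _ _ hz₁)
    have hb₂ : b ∈ q₂' := hu₂ ▸ (show algebraMap BV B b ∈ q₂ from hzs ▸ Ideal.mul_mem_right _ _ hz₂)
    obtain ⟨s', hs', c, hc, hsc⟩ := hrad b hb₁ hb₂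
    obtain ⟨_, s₀, hs₀, rfl⟩ := s
    refine ⟨IsLocalization.mk' R c (⟨s₀ * s', p.primeCompl.mul_mem hs₀ hs'⟩ : p.primeCompl), ?_, ?_⟩
    · exact (IsLocalization.AtPrime.mk'_mem_maximal_iff R p _ _).2 hc
    · have hu : IsUnit (algebraMap A B (s₀ * s')) := by
        rw [IsScalarTower.algebraMap_apply A BV B]
        exact IsLocalization.map_units B (⟨_, s₀ * s', p.primeCompl.mul_mem hs₀ hs', rfl⟩ : T)
      refine hu.mul_left_cancel ?_
      rw [IsScalarTower.algebraMap_apply A R B, ← map_mul, mul_comm, IsLocalization.mk'_spec,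
        ← IsScalarTower.algebraMap_apply A R B, ← IsScalarTower.algebraMap_apply A R B,
        IsScalarTower.algebraMap_apply A BV B, IsScalarTower.algebraMap_apply A BV B, ← hsc, Algebra.smul_def,
        map_mul, map_mul, map_mul]
      rw [show algebraMap BV B b = z * algebraMap BV B (algebraMap A BV s₀) from hzs.symm]
      ring
  have hmax : ∀ M : Ideal B, M.IsMaximal → M = q₁ ∨ M = q₂ := fun M hM => by
    have hp : (M.comap (algebraMap BV B)).comap (algebraMap A BV) ≤ p := fun a ha => by
      by_contra hap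
      exact hM.ne_top (Ideal.eq_top_of_isUnit_mem _ ha (IsLocalization.map_units B (⟨_, a, hap, rfl⟩ : T)))
    obtain ⟨Q, hQle, hQp, hQc⟩ := Ideal.exists_ideal_over_prime_of_isIntegral p (M.comap (algebraMap BV B)) hp
    haveI := hQp
    haveI : (Q.map (algebraMap BV B)).IsPrime :=
      IsLocalization.isPrime_of_isPrime_disjoint T B Q hQp (hdis Q hQc)
    have hMQ : M = Q.map (algebraMap BV B) := hM.eq_of_le (Ideal.IsPrime.ne_top inferInstance)
      ((IsLocalization.map_comap T B M).symm.le.trans (Ideal.map_mono hQle))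
    haveI : Q.IsMaximal := Ideal.isMaximal_of_isIntegral_of_isMaximal_comap Q (by rw [hQc]; infer_instance)
    have hor : q₁' ≤ Q ∨ q₂' ≤ Q := (Ideal.IsPrime.mul_le hQp).1 fun b hb => by
      have hb' : b ∈ q₁' ⊓ q₂' := Ideal.mul_le_inf hb
      obtain ⟨s, hs, c, hc, hsc⟩ := hrad b hb'.1 hb'.2
      rw [Algebra.smul_def] at hsc
      refine (hQp.mem_or_mem (hsc ▸ ?_ : algebraMap A BV s * b ∈ Q)).resolve_left fun hh => hs ?_
      · show c ∈ Q.comap (algebraMap A BV)
        rw [hQc]; exact hc
      · show s ∈ p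
        rw [← hQc]; exact hh
    rcases hor with ho | ho
    · exact Or.inl (hMQ.trans (by rw [← Ideal.IsMaximal.eq_of_le inferInstance hQp.ne_top ho]))
    · exact Or.inr (hMQ.trans (by rw [← Ideal.IsMaximal.eq_of_le inferInstance hQp.ne_top ho]))
  have hinjAB : Function.Injective (algebraMap A BV) := Groth.L21.NormRed.app_injective π h.hUd V
  have hinj : Function.Injective (algebraMap R B) := by
    haveI : IsLocalization (p.primeCompl.map (algebraMap A BV)) B := inferInstanceAs (IsLocalization T B)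
    exact IsLocalization.map_injective_of_injective p.primeCompl R B hinjAB
  -- the generator
  obtain ⟨f, hfU, -, hfB⟩ := Groth.L21.NormRed.exists_regular π h.hnorm h.hUd h.hUd' hV
  have hloc : ∀ (q : Ideal B) [q.IsPrime], q = q₁ ∨ q = q₂ → IsDomain (Localization.AtPrime q) ∧
      IsPrincipalIdealRing (Localization.AtPrime q) ∧ ¬ IsField (Localization.AtPrime q) := by
    intro q _ hq
    let q' := q.comap (algebraMap BV B)
    have hq'p : q'.comap (algebraMap A BV) = p := by
      rcases hq with rfl | rfl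
      · exact (congrArg _ hu₁).trans hc₁
      · exact (congrArg _ hu₂).trans hc₂
    haveI : IsLocalization.AtPrime (Localization.AtPrime q) q' :=
      IsLocalization.isLocalization_isLocalization_atPrime_isLocalization T (Localization.AtPrime q) q
    let y := hV'.fromSpec ⟨q', inferInstance⟩
    have hy : y ∈ π ⁻¹ᵁ V := hV'.range_fromSpec.le ⟨_, rfl⟩
    letI := TopCat.Presheaf.algebra_section_stalk Y.presheaf (⟨y, hy⟩ : ↥(π ⁻¹ᵁ V))
    haveI : IsLocalization q'.primeCompl (Y.presheaf.stalk y) := hV'.isLocalization_stalk' ⟨q', inferInstance⟩ hy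
    haveI : IsLocallyNoetherian Y := LocallyOfFiniteType.isLocallyNoetherian π
    let e : Y.presheaf.stalk y ≃+* Localization.AtPrime q :=
      (IsLocalization.algEquiv q'.primeCompl _ _).toRingEquiv
    haveI := (h.hnorm y).1
    haveI := (pid_regular_stalk h.hnorm hdY y).1
    refine ⟨e.symm.toMulEquiv.isDomain _, IsPrincipalIdealRing.of_surjective e.toRingHom e.surjective, fun hF => ?_⟩
    have hfp : f ∈ p := by
      by_contra hfp
      refine ((h.hU x).1 (hfU ?_)) hx
      rw [Scheme.mem_basicOpen X f x hxV]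
      exact IsLocalization.map_units R (⟨f, hfp⟩ : p.primeCompl)
    have hfq : algebraMap A BV f ∈ q' := by rw [← hq'p] at hfp; exact hfp
    letI := hF.toField
    have h0 : algebraMap BV (Localization.AtPrime q) (algebraMap A BV f) = 0 := by
      by_contra hne0
      exact ((IsLocalization.AtPrime.to_map_mem_maximal_iff (Localization.AtPrime q) q' _).2 hfq)
        (IsUnit.mk0 _ hne0)
    obtain ⟨s, hs⟩ := (IsLocalization.map_eq_zero_iff q'.primeCompl (Localization.AtPrime q) _).1 h0
    exact s.2 (by rw [mem_nonZeroDivisors_iff_right.1 hfB _ hs]; exact zero_mem q')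
  obtain ⟨t, ht, hnzd⟩ := exists_generator q₁ q₂ hne hmax hloc
  have hdata : NodeData k (R := R) q₁ q₂ t :=
    { inj := hinj, res := hresR, res₁ := hres₁, res₂ := hres₂, prime₁ := inferInstance, prime₂ := inferInstance
      ne := hne, max := hmax, le := hle, cap := hcap, gen := ht, nzd := hnzd }
  haveI : Algebra.EssFiniteType BV B := Algebra.EssFiniteType.of_isLocalization B T
  haveI : Algebra.EssFiniteType k B := Algebra.EssFiniteType.comp k BV B
  haveI : Algebra.EssFiniteType A R := Algebra.EssFiniteType.of_isLocalization R p.primeCompl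
  haveI : Algebra.EssFiniteType k R := Algebra.EssFiniteType.comp k A R
  haveI : Algebra.FormallySmooth BV B := Algebra.FormallySmooth.of_isLocalization T
  haveI : Algebra.FormallySmooth k B := Algebra.FormallySmooth.comp k BV B
  -- comparison
  haveI : Coh.IsQCoh (Omega.sheaf (X ↘ Spec (CommRingCat.of k))) := (Groth.L15.OmegaCoh.isCoh_omega _).1
  haveI : Coh.IsQCoh (Omega.sheaf (π ≫ (X ↘ Spec (CommRingCat.of k)))) := (Groth.L15.OmegaCoh.isCoh_omega _).1
  let F := Omega.sheaf (X ↘ Spec (CommRingCat.of k))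
  let P := (Scheme.Modules.pushforward π).obj (Omega.sheaf (π ≫ (X ↘ Spec (CommRingCat.of k))))
  letI := Groth.L21.TFNodal.pushModule (π := π) (Omega.sheaf (π ≫ (X ↘ Spec (CommRingCat.of k)))) V
  haveI : IsScalarTower A BV Γ(P, V) := IsScalarTower.of_algebraMap_smul fun _ _ => rfl
  letI := Groth.L20.ModStalk.stalkModule F hxV
  letI := Groth.L20.ModStalk.stalkModule P hxV
  haveI : IsScalarTower A R (F.presheaf.stalk x) := IsScalarTower.of_algebraMap_smul fun _ _ => rfl
  haveI : IsScalarTower A R (P.presheaf.stalk x) := IsScalarTower.of_algebraMap_smul fun _ _ => rfl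
  haveI := Groth.L20.ModStalk.isLocalizedModule_germ F hV hxV
  haveI := Groth.L20.ModStalk.isLocalizedModule_germ_push π (Omega.sheaf (π ≫ (X ↘ Spec (CommRingCat.of k)))) hV hV' hxV
  let eX := LinearEquiv.ofBijective (secMap (X ↘ Spec (CommRingCat.of k)) V) (bijective_secMap (X ↘ Spec (CommRingCat.of k)) hV)
  let sY : Ω[BV⁄k] →ₗ[BV] Γ(P, V) :=
    { toFun := fun z => secMap (π ≫ (X ↘ Spec (CommRingCat.of k))) (π ⁻¹ᵁ V) z
      map_add' := fun a b => map_add _ a b
      map_smul' := fun b z => map_smul (secMap (π ≫ (X ↘ Spec (CommRingCat.of k))) (π ⁻¹ᵁ V)) b z }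
  let eY := (LinearEquiv.ofBijective sY (bijective_secMap (π ≫ (X ↘ Spec (CommRingCat.of k))) hV')).restrictScalars A
  let g : Ω[A⁄k] →ₗ[A] F.presheaf.stalk x := (Groth.L20.ModStalk.germₗ F hxV).comp eX.toLinearMap
  let g₂ : Ω[BV⁄k] →ₗ[A] P.presheaf.stalk x := (Groth.L20.ModStalk.germₗ P hxV).comp eY.toLinearMap
  haveI : IsLocalizedModule p.primeCompl g := IsLocalizedModule.of_linearEquiv_right _ _ eX
  haveI : IsLocalizedModule p.primeCompl g₂ := IsLocalizedModule.of_linearEquiv_right _ _ eY
  let g' := KaehlerDifferential.map k k A R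
  haveI : IsLocalizedModule p.primeCompl g' := KaehlerDifferential.isLocalizedModule_map k A R p.primeCompl
  haveI : IsLocalizedModule T (KaehlerDifferential.map k k BV B) :=
    KaehlerDifferential.isLocalizedModule_map k BV B T
  let h' := (KaehlerDifferential.map k k BV B).restrictScalars A
  haveI : IsLocalizedModule p.primeCompl h' := isLocalizedModule_restrict p.primeCompl _
  let ω : F.presheaf.stalk x →ₗ[R] P.presheaf.stalk x := ((Groth.L00.Stk.F X x).map β).hom
  have key := localized_compare p.primeCompl g g₂ g' h' (KaehlerDifferential.map k k A BV) ω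
    (KaehlerDifferential.map k k R B)
    (fun z => (Groth.L21.Mod.stalkF_map_germ β V x hxV (secMap (X ↘ Spec (CommRingCat.of k)) V z)).trans
      (congrArg (P.presheaf.germ V x hxV) (beta_secMap hβ V z)))
    (fun z => by
      have hz : z ∈ Submodule.span A (Set.range (KaehlerDifferential.D k A)) := by
        rw [KaehlerDifferential.span_range_derivation]; trivial
      induction hz using Submodule.span_induction with
      | mem z hz =>
        obtain ⟨a, rfl⟩ := hz
        simp only [g', h', LinearMap.restrictScalars_apply, KaehlerDifferential.map_D]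
        rw [← IsScalarTower.algebraMap_apply A R B, IsScalarTower.algebraMap_apply A BV B]
      | zero => simp only [map_zero]
      | add a b _ _ ha hb => simp only [map_add, ha, hb]
      | smul a z _ hz => simp only [map_smul, LinearMap.map_smul_of_tower, hz])
  exact ⟨key.2 hdata.surjective_map, key.1.trans hdata.length_ker⟩

end Groth.L21.NodalExt
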