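import Groth.Agent.L21.NodalExt.VectorFields
import Groth.Agent.L21.Curve.NormalConnected
import Groth.Agent.L21.Nodal.ClosedSub
import Groth.Agent.L21.Duality.Main
import Groth.Agent.L21.SmoothCurveDim

/-!
An unstable nodal curve has a vector field.
-/

set_option autoImplicit false
set_option backward.isDefEq.respectTransparency false
set_option backward.isDefEq.respectTransparency.types false
set_option linter.style.haveILetI false
set_option maxHeartbeats 800000

universe u

open CategoryTheory CategoryTheory.Limits AlgebraicGeometry TopologicalSpace Opposite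

noncomputable section

namespace Groth.L21.NodalExt

open Groth.L21.RR (SuppClosed h st)
open Groth.L00.Tensor (tensorRightF tensorUnitLeft tensorComm tensorIso tensorMap)

variable {k : Type u} [Field k] [IsAlgClosed k] {X : Scheme.{u}} [X.Over (Spec (CommRingCat.of k))]
  [IsProper (X ↘ Spec (CommRingCat.of k))]

/-- Without vector fields there is no `H¹(Ω ⊗ ω)`. -/
theorem h1_eq_zero_of_no_fields {w : X.Modules} {t : Coh.HH X w 1 →ₗ[k] k} (hwt : Canon.IsRDualOver k X 1 w t)
    (hw : PicF.IsInvertible w)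
    (hno : ∀ θ : Omega.sheaf (X ↘ Spec (CommRingCat.of k)) ⟶ Coh.structureModule X, θ = 0) :
    h k 1 (CohB1.tensorMod w (Omega.sheaf (X ↘ Spec (CommRingCat.of k)))) = 0 := by
  haveI := Groth.L21.RR.isNoetherian_of_proper (X := X) k
  have hG : Coh.IsCoh (CohB1.tensorMod w (Omega.sheaf (X ↘ Spec (CommRingCat.of k)))) :=
    Groth.L22.CurveDeg.isCoh_tensor_locFree (Groth.L12.FinCov.isFinLocFreeOfRank_one_of_isInvertible hw)
      (Groth.L15.OmegaCoh.isCoh_omega _)
  rw [← Groth.L21.CurveDual.finrank_hom hwt _ hG.1]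
  haveI : Subsingleton (CohB1.tensorMod w (Omega.sheaf (X ↘ Spec (CommRingCat.of k))) ⟶ w) :=
    subsingleton_of_forall_eq 0 fun φ => by
      rw [← cancel_epi (tensorComm (Omega.sheaf (X ↘ Spec (CommRingCat.of k))) w).hom, comp_zero]
      exact hom_tensor_eq_zero hw hno _
  exact Module.finrank_zero_of_subsingleton

omit [IsAlgClosed k] in
/-- A surjection of coherent modules kills negative Euler characteristics. -/
theorem euler_nonneg_of_epi (hd : topologicalKrullDim X ≤ 1) {M N : X.Modules} (f : M ⟶ N) [Epi f]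
    (hM : Coh.IsCoh M) (h1 : h k 1 M = 0) : 0 ≤ Curv2.euler k X N := by
  haveI := Groth.L21.RR.isNoetherian_of_proper (X := X) k
  haveI := Groth.L21.RR.finite_HH' k hM 1
  haveI : Subsingleton (Coh.HH X M 1) := Module.finrank_zero_iff.1 h1
  haveI : Subsingleton (Coh.HH X N 1) := (Groth.L21.RedCurve.surjective_hmap_one_of_epi hd f).subsingleton
  rw [Groth.L21.RR.euler_eq k hd, Groth.L21.RR.h_eq_zero_of_subsingleton k ‹Subsingleton (Coh.HH X N 1)›]
  simp

omit [IsAlgClosed k] in
/-- Differentials surject onto those of a closed subscheme. -/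
theorem exists_epi_omega_closed {J : Scheme.{u}} (i : J ⟶ X) [IsClosedImmersion i] :
    ∃ β : Omega.sheaf (X ↘ Spec (CommRingCat.of k)) ⟶
      (Scheme.Modules.pushforward i).obj (Omega.sheaf (i ≫ (X ↘ Spec (CommRingCat.of k)))), Epi β := by
  obtain ⟨β, hβ⟩ := exists_beta (X ↘ Spec (CommRingCat.of k)) i
  refine ⟨β, (Groth.L21.Mod.epi_iff_stalk_surjective β).2 fun x v => ?_⟩
  let P := (Scheme.Modules.pushforward i).obj (Omega.sheaf (i ≫ (X ↘ Spec (CommRingCat.of k))))
  obtain ⟨W, hxW, s, rfl⟩ := TopCat.Presheaf.exists_germ_eq P.presheaf v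
  obtain ⟨V, hV, hxV, hVW⟩ := exists_isAffineOpen_mem_and_subset (x := x) (U := W) hxW
  letI := (scal (X ↘ Spec (CommRingCat.of k)) V).toAlgebra
  letI := (scal (i ≫ (X ↘ Spec (CommRingCat.of k))) (i ⁻¹ᵁ V)).toAlgebra
  letI := (i.app V).hom.toAlgebra
  haveI := isScalarTower_scal (X ↘ Spec (CommRingCat.of k)) i V
  obtain ⟨z, hz⟩ := (bijective_secMap (i ≫ (X ↘ Spec (CommRingCat.of k))) (hV.preimage i)).2
    (Groth.L18.Frame.rs P hVW s)
  obtain ⟨a, rfl⟩ := KaehlerDifferential.map_surjective_of_surjective k k Γ(X, V) Γ(J, i ⁻¹ᵁ V)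
    (i.app_surjective V hV) z
  refine ⟨_, (Groth.L21.Mod.stalkF_map_germ β V x hxV (secMap (X ↘ Spec (CommRingCat.of k)) V a)).trans ?_⟩
  refine (congrArg (P.presheaf.germ V x hxV) ((beta_secMap hβ V a).trans hz)).trans ?_
  exact Groth.L20.ModStalk.germ_rs (M := P) hVW hxV s

variable [ConnectedSpace X]

/-- No component of genus zero has nonpositive dualizing degree. -/
theorem degOn_pos_of_no_fields (hdim : topologicalKrullDim X = 1) (hnod : Curv2.AtWorstNodal k X) {w : X.Modules}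
    {t : Coh.HH X w 1 →ₗ[k] k} (hwt : Canon.IsRDualOver k X 1 w t) (hw : PicF.IsInvertible w)
    (hno : ∀ θ : Omega.sheaf (X ↘ Spec (CommRingCat.of k)) ⟶ Coh.structureModule X, θ = 0)
    (C : Set X) (hC : C ∈ irreducibleComponents (X : Type u))
    (hg : Subsingleton (Coh.HH (Groth.L21.CurveAdj.IC C hC).subscheme
      (Coh.structureModule (Groth.L21.CurveAdj.IC C hC).subscheme) 1)) :
    0 < Groth.L21.CurveAdj.degOn k w (Groth.L21.CurveAdj.IC C hC) := by
  haveI := Groth.L21.RR.isNoetherian_of_proper (X := X) k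
  obtain ⟨hred, hgen⟩ := Groth.L21.CurveAdj.nodal_reduced (k := k) hdim hnod
  haveI := hred
  haveI : X.IsSeparated := ⟨by rw [← Limits.terminal.comp_from (X ↘ Spec (CommRingCat.of k))]; infer_instance⟩
  haveI := Groth.L21.CurveAdj.isIntegral_IC C hC
  obtain ⟨hdJ, -⟩ := Groth.L21.CurveAdj.dim_component hdim.le hgen C hC
  generalize hJ : Groth.L21.CurveAdj.IC C hC = J at *
  let i := J.subschemeι
  letI : J.subscheme.Over (Spec (CommRingCat.of k)) := ⟨i ≫ (X ↘ Spec (CommRingCat.of k))⟩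
  haveI : IsProper (J.subscheme ↘ Spec (CommRingCat.of k)) :=
    inferInstanceAs (IsProper (i ≫ (X ↘ Spec (CommRingCat.of k))))
  haveI := Groth.L21.RR.isNoetherian_of_proper (X := J.subscheme) k
  haveI : ConnectedSpace J.subscheme := inferInstance
  have hclX : Groth.L21.Nodal.CurveLike X :=
    ⟨fun a b c hab hbc => Groth.L21.RR.Top.spec_of_dim_le_one (X := X.toTopCat) hdim.le a b c hab hbc,
      fun x hx => by
        obtain ⟨v, hv, hvx⟩ := hgen x
        exact ⟨v, fun e => hv (e ▸ hx), hvx⟩⟩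
  have hclJ : Groth.L21.Nodal.CurveLike J.subscheme :=
    ⟨fun a b c hab hbc => Groth.L21.RR.Top.spec_of_dim_le_one (X := J.subscheme.toTopCat) hdJ.le a b c hab hbc,
      fun x hx => by
        obtain ⟨v, hv, hvx⟩ := Groth.L21.CurveDual.exists_nonclosed_gen hdJ x
        exact ⟨v, fun e => hv (e ▸ hx), hvx⟩⟩
  have hnodJ : Curv2.AtWorstNodal k J.subscheme :=
    Groth.L21.Nodal.atWorstNodal_of_closedImmersion i rfl hclX hnod hclJ
  obtain ⟨β, hβ⟩ := exists_epi_omega_closed (k := k) i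
  haveI := hβ
  let ΩJ := Omega.sheaf (i ≫ (X ↘ Spec (CommRingCat.of k)))
  have hwf := Groth.L16.Existence.isFinLocFree_of_isInvertible hw
  haveI := Groth.L17.ProjFormula.isIso_θ i w ΩJ hwf
  have hwr := Groth.L12.FinCov.isFinLocFreeOfRank_one_of_isInvertible hw
  obtain ⟨w', -, ⟨e⟩⟩ := Groth.L08.Cube.exists_inverse hw
  haveI := Groth.L22.PDual.isEquivalence_tensorRightF e
  let f := (tensorComm w (Omega.sheaf (X ↘ Spec (CommRingCat.of k)))).hom ≫ (tensorRightF w).map β ≫
    (tensorComm _ w).hom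
  have hχ := euler_nonneg_of_epi (k := k) hdim.le f
    (Groth.L22.CurveDeg.isCoh_tensor_locFree hwr (Groth.L15.OmegaCoh.isCoh_omega _))
    (h1_eq_zero_of_no_fields hwt hw hno)
  have hwJ := Groth.L18.Ample.isInvertible_pullback i hw
  change 0 ≤ Curv2.euler k X (CohB1.tensorMod w ((Scheme.Modules.pushforward i).obj ΩJ)) at hχ
  rw [
    Groth.L22.CurveDeg.euler_tensor_push k i rfl hwf ΩJ (Groth.L15.OmegaCoh.isCoh_omega _).1,
    show Curv2.euler k J.subscheme (CohB1.tensorMod ((Scheme.Modules.pullback i).obj w) ΩJ) = _ from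
      (euler_omega_nodal hdJ hnodJ).2 _ hwJ, Groth.L21.RR.euler_eq k hdJ.le,
    Groth.L21.CurveAdj.h0_eq_one_of_connected, Groth.L21.RR.h_eq_zero_of_subsingleton k hg] at hχ
  show 0 < Curv2.deg k J.subscheme ((Scheme.Modules.pullback i).obj w) 1
  push_cast at hχ
  linarith

/-- Without vector fields the genus is at least two. -/
theorem two_le_genus_of_no_fields (hdim : topologicalKrullDim X = 1) (hnod : Curv2.AtWorstNodal k X)
    {w : X.Modules} {t : Coh.HH X w 1 →ₗ[k] k} (hwt : Canon.IsRDualOver k X 1 w t) (hw : PicF.IsInvertible w)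
    (hno : ∀ θ : Omega.sheaf (X ↘ Spec (CommRingCat.of k)) ⟶ Coh.structureModule X, θ = 0) :
    2 ≤ Curv2.genus k X := by
  classical
  haveI := Groth.L21.RR.isNoetherian_of_proper (X := X) k
  obtain ⟨hred, hgen⟩ := Groth.L21.CurveAdj.nodal_reduced (k := k) hdim hnod
  haveI := hred
  have h0 : h k 0 (Coh.structureModule X) = 1 := Groth.L21.CurveAdj.h0_eq_one_of_connected
  obtain ⟨-, -, -, hset⟩ := Groth.L21.CurveAdj.nodal_setup hdim h0 hnod
  obtain ⟨S, -⟩ := hset w t hwt
  obtain ⟨Y, π, U, hS, hsm, hdY⟩ := exists_setting k hdim hnod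
  haveI := hS.finite; haveI := hS.iso
  obtain ⟨β, hβ⟩ := exists_beta (X ↘ Spec (CommRingCat.of k)) π
  haveI : Smooth (π ≫ (X ↘ Spec (CommRingCat.of k))) := hsm
  let ΩX := Omega.sheaf (X ↘ Spec (CommRingCat.of k))
  let K := kernel β
  have hwr := Groth.L12.FinCov.isFinLocFreeOfRank_one_of_isInvertible hw
  have hO : Curv2.euler k X (Coh.structureModule X) = 1 - (Curv2.genus k X : ℤ) := by
    rw [Groth.L21.RR.euler_eq k hdim.le, h0]
    rfl
  have hχ : Curv2.euler k X (CohB1.tensorMod w ΩX) = 3 * (Curv2.genus k X : ℤ) - 3 := by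
    rw [show Curv2.euler k X (CohB1.tensorMod w ΩX) = _ from (euler_omega_nodal hdim hnod).2 w hw, Curv2.deg,
      Groth.L21.CurveDual.euler_eq_neg hdim.le hwt S.assO, hO]
    push_cast
    ring
  have hG : Coh.IsCoh (CohB1.tensorMod w ΩX) :=
    Groth.L22.CurveDeg.isCoh_tensor_locFree hwr (Groth.L15.OmegaCoh.isCoh_omega _)
  have h1 := h1_eq_zero_of_no_fields hwt hw hno
  have hnn := euler_nonneg_of_epi (k := k) hdim.le (𝟙 (CohB1.tensorMod w ΩX)) hG h1
  rw [hχ] at hnn
  by_contra hlt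
  have hg1 : Curv2.genus k X = 1 := by omega
  -- a node makes the Euler characteristic negative
  have hno' : ∀ x, ¬ Curv2.IsNode k X x := fun x hx => by
    have hPc : Coh.IsCoh ((Scheme.Modules.pushforward π).obj (Omega.sheaf (π ≫ (X ↘ Spec (CommRingCat.of k))))) :=
      Groth.L07.PrinParts.isCoh_pushforward_finite π (Groth.L15.OmegaCoh.isCoh_omega _)
    haveI : Epi β := (Groth.L21.Mod.epi_iff_stalk_surjective β).2 fun y => by
      by_cases hn : Curv2.IsNode k X y
      · exact (stalk_at_node hβ hS hdY hn).1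
      · exact (bijective_stalk_of_mem hβ hS ((hS.hU y).2 hn)).2
    have hKc : Coh.IsCoh K := (Groth.L16.CohKernel.isCoh_kernel_cokernel (Groth.L15.OmegaCoh.isCoh_omega _) hPc β).1
    have hKs : SuppClosed K := fun y hy =>
      Groth.L21.RedCurve.subsingleton_stalk_kernel β
        (bijective_stalk_of_mem hβ hS ((hS.hU y).2 fun hn => hy hn.1)).1
    have hE : (ShortComplex.mk (kernel.ι β) β (kernel.condition β)).ShortExact :=
      { exact := ShortComplex.exact_kernel β
        mono_f := inferInstanceAs (Mono (kernel.ι β))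
        epi_g := inferInstanceAs (Epi β) }
    have hp := Groth.L22.CurveDeg.phi_add k hwr hE hKc (Groth.L15.OmegaCoh.isCoh_omega _) hPc
    dsimp only at hp
    rw [Groth.L22.CurveDeg.phi_eq_zero k hwr hKc hKs, zero_add] at hp
    unfold Groth.L22.CurveDeg.phi at hp
    have he := Groth.L21.RR.euler_add k hdim.le hE hKc (Groth.L15.OmegaCoh.isCoh_omega _) hPc
    dsimp only at he
    rw [Groth.L21.RR.euler_eq_h0_of_suppClosed k hKs] at he
    have hKpos : 0 < h k 0 K := by
      haveI := Groth.L21.RR.finite_HH' k hKc 0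
      by_contra hz
      haveI hsub : Subsingleton (Coh.HH X K 0) := Module.finrank_zero_iff.1 (show h k 0 K = 0 by omega)
      have hl := (stalk_at_node hβ hS hdY hx).2
      haveI : Subsingleton (K.presheaf.stalk x) := ⟨fun p q => by
        obtain ⟨s, hs, -⟩ := Groth.L21.RR.exists_section_germ hKs x p
        obtain ⟨s', hs', -⟩ := Groth.L21.RR.exists_section_germ hKs x q
        rw [← hs, ← hs', show s = s' from (Groth.L21.RR.e0 K).symm.injective (Subsingleton.elim _ _)]⟩
      haveI : Subsingleton ((Groth.L00.Stk.F X x).obj (kernel β)) := ‹Subsingleton (K.presheaf.stalk x)›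
      rw [← ((PreservesKernel.iso (Groth.L00.Stk.F X x) β) ≪≫
        ModuleCat.kernelIsoKer ((Groth.L00.Stk.F X x).map β)).toLinearEquiv.length_eq,
        Module.length_eq_zero] at hl
      exact zero_ne_one hl
    obtain ⟨w', -, ⟨e⟩⟩ := Groth.L08.Cube.exists_inverse hw
    haveI := Groth.L22.PDual.isEquivalence_tensorRightF e
    let f := (tensorComm w ΩX).hom ≫ (tensorRightF w).map β ≫ (tensorComm _ w).hom
    have hf := euler_nonneg_of_epi (k := k) hdim.le f hG h1
    change 0 ≤ Curv2.euler k X (CohB1.tensorMod w _) at hf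
    push_cast at hp
    linarith
  -- smooth of genus one
  have hU : U = ⊤ := top_le_iff.1 fun x _ => (hS.hU x).2 (hno' x)
  haveI : IsIso π := by
    subst hU
    haveI : IsIso (π ∣_ (⊤ : X.Opens)) := hS.iso
    have he : (π ⁻¹ᵁ (⊤ : X.Opens)).ι ≫ π = (π ∣_ (⊤ : X.Opens)) ≫ (⊤ : X.Opens).ι := (morphismRestrict_ι π ⊤).symm
    haveI : IsIso ((⊤ : X.Opens).ι) := (Scheme.topIso X).isIso_hom
    haveI : IsIso ((π ⁻¹ᵁ (⊤ : X.Opens)).ι) := (Scheme.topIso Y).isIso_hom
    haveI : IsIso ((π ⁻¹ᵁ (⊤ : X.Opens)).ι ≫ π) := he ▸ inferInstance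
    exact IsIso.of_isIso_comp_left (π ⁻¹ᵁ (⊤ : X.Opens)).ι π
  haveI : Smooth (X ↘ Spec (CommRingCat.of k)) := by
    rw [← IsIso.inv_hom_id_assoc π (X ↘ Spec (CommRingCat.of k))]
    infer_instance
  haveI : IsIntegral X := Groth.L21.NormalTotal.isIntegral_of_connected fun x =>
    Groth.L21.Smooth.isDomain_stalk (X ↘ Spec (CommRingCat.of k)) x
  obtain ⟨a0, -, a2⟩ := Groth.L21.Duality.omega_invariants (k := k) (X := X) hdim
  have hΩ := Groth.L21.Duality.isInvertible_omega (k := k) (X := X) hdim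
  have hdeg := a2 h0
  rw [hg1] at hdeg
  have hh : h k 0 ΩX = 1 := a0.trans hg1
  obtain ⟨φ, hφ⟩ : ∃ φ : Coh.structureModule X ⟶ ΩX, φ ≠ 0 := by
    by_contra hall
    push Not at hall
    haveI : Subsingleton (Coh.structureModule X ⟶ ΩX) := subsingleton_of_forall_eq 0 hall
    rw [Groth.L21.CurveDual.h0_eq_finrank_hom, Module.finrank_zero_of_subsingleton] at hh
    exact zero_ne_one hh
  obtain ⟨hadd, hiso⟩ := Groth.L22.CurveDeg.deg_add k hdim.le
    (Groth.L18.Ample.isInvertible_structureModule X) hΩ hφ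
  rw [hdeg, Groth.L22.CurveDeg.deg_structure] at hadd
  haveI := hiso (by omega)
  have h2 := congrArg (φ ≫ ·) (hno (inv φ))
  rw [IsIso.hom_inv_id, comp_zero] at h2
  haveI : Subsingleton (Coh.structureModule X ⟶ ΩX) := ⟨fun a b => by
    rw [← Category.id_comp a, ← Category.id_comp b, h2, zero_comp, zero_comp]⟩
  exact hφ (Subsingleton.elim _ _)

end Groth.L21.NodalExt
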