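import Groth.Agent.L21.NodalExt.Main
import Groth.Agent.L21.CurveAdj.Components
import Groth.Agent.L19.CurveSecZero
import Groth.Agent.L18.AmplePull
import Groth.Agent.L21.P1.PushCoh
import Groth.Agent.L21.RR.Twist
import Groth.Agent.L14.DefLift.AutOmega

/-!
A nodal curve with ample dualizing module has no vector fields.
-/

set_option autoImplicit false
set_option backward.isDefEq.respectTransparency false
set_option backward.isDefEq.respectTransparency.types false
set_option linter.style.haveILetI false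
set_option maxHeartbeats 800000

universe u

open CategoryTheory CategoryTheory.Limits AlgebraicGeometry TopologicalSpace Opposite

noncomputable section

namespace Groth.L21.NodalExt

open Groth.L21.RR (SuppClosed h st)
open Groth.L00.Tensor (tensorRightF tensorUnitLeft tensorComm tensorIso tensorMap)

section General

variable {X : Scheme.{u}}

/-- No maps to the structure module means no maps after twisting. -/
theorem hom_tensor_eq_zero {A w : X.Modules} (hw : PicF.IsInvertible w)
    (h : ∀ ψ : A ⟶ Coh.structureModule X, ψ = 0) (φ : CohB1.tensorMod A w ⟶ w) : φ = 0 := by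
  obtain ⟨w', -, ⟨e⟩⟩ := Groth.L08.Cube.exists_inverse hw
  haveI := Groth.L22.PDual.isEquivalence_tensorRightF e
  obtain ⟨ψ, hψ⟩ := (tensorRightF w).map_surjective (φ ≫ (tensorUnitLeft w).inv)
  rw [h ψ, Functor.map_zero] at hψ
  rw [← cancel_mono (tensorUnitLeft w).inv, zero_comp]
  exact hψ.symm

/-- And conversely. -/
theorem eq_zero_of_tensor {A w : X.Modules} (hw : PicF.IsInvertible w)
    (h : ∀ φ : CohB1.tensorMod A w ⟶ w, φ = 0) (ψ : A ⟶ Coh.structureModule X) : ψ = 0 := by
  obtain ⟨w', -, ⟨e⟩⟩ := Groth.L08.Cube.exists_inverse hw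
  haveI := Groth.L22.PDual.isEquivalence_tensorRightF e
  refine (tensorRightF w).map_injective ?_
  rw [Functor.map_zero, ← cancel_mono (tensorUnitLeft w).hom, zero_comp]
  exact h _

end General

variable {k : Type u} [Field k]

/-- An ample module has no dual sections. -/
theorem hom_eq_zero_of_ample {Y : Scheme.{u}} [Y.Over (Spec (CommRingCat.of k))]
    [IsProper (Y ↘ Spec (CommRingCat.of k))] [AlgebraicGeometry.IsReduced Y] (hd : topologicalKrullDim Y ≤ 1)
    (hgen : ∀ z : Y, ∃ w, ¬ IsClosed ({w} : Set Y) ∧ w ⤳ z) {Q : Y.Modules} (hQi : PicF.IsInvertible Q)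
    (hQ : CohB1.IsAmple Q) (φ : Q ⟶ Coh.structureModule Y) : φ = 0 := by
  haveI := Groth.L21.RR.isNoetherian_of_proper (X := Y) k
  obtain ⟨R, hR, ⟨e⟩⟩ := Groth.L08.Cube.exists_inverse hQi
  haveI := Groth.L22.PDual.isEquivalence_tensorRightF (tensorComm R Q ≪≫ e)
  haveI := Groth.L22.PDual.isEquivalence_tensorRightF e
  suffices key : ∀ v : Coh.structureModule Y ⟶ R, v = 0 by
    haveI : (tensorRightF R).IsEquivalence := Groth.L22.PDual.isEquivalence_tensorRightF
      (L := R) (L' := Q) (tensorComm R Q ≪≫ e)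
    refine (tensorRightF R).map_injective ?_
    rw [Functor.map_zero, ← cancel_epi e.inv, ← cancel_mono (tensorUnitLeft R).hom]
    exact (key _).trans (by rw [comp_zero, zero_comp])
  intro v
  by_contra hv
  obtain ⟨x, hx⟩ : ∃ x, x ∈ CohB1.genLocus R v := by
    by_contra hne
    push Not at hne
    exact hv (Groth.L19.CurveSec.eq_zero_of_genLocus_eq_bot hR v
      (eq_bot_iff.2 fun x hx => absurd hx (hne x)))
  obtain ⟨η, hη, hηx⟩ := hgen x
  have hηv : η ∈ CohB1.genLocus R v := hηx.mem_open (CohB1.genLocus R v).2 hx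
  have hC := Groth.L21.CurveAdj.closure_mem_components hd hη
  have hpos := (Groth.L21.CurveAdj.isAmple_iff_degOn (k := k) hd hgen hQi).1 hQ _ hC
  haveI := Groth.L21.CurveAdj.isIntegral_IC (closure {η}) hC
  set J := Groth.L21.CurveAdj.IC (closure {η}) hC with hJ
  letI : J.subscheme.Over (Spec (CommRingCat.of k)) := ⟨J.subschemeι ≫ (Y ↘ Spec (CommRingCat.of k))⟩
  haveI : IsProper (J.subscheme ↘ Spec (CommRingCat.of k)) :=
    inferInstanceAs (IsProper (J.subschemeι ≫ (Y ↘ Spec (CommRingCat.of k))))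
  haveI := Groth.L21.RR.isNoetherian_of_proper (X := J.subscheme) k
  have hdJ : topologicalKrullDim J.subscheme ≤ 1 :=
    J.subschemeι.isClosedEmbedding.isInducing.topologicalKrullDim_le.trans hd
  have hRJ := Groth.L18.Ample.isInvertible_pullback J.subschemeι hR
  let s := Groth.L18.Ample.pullHom J.subschemeι v
  obtain ⟨η', hη'⟩ : η ∈ Set.range J.subschemeι := by
    rw [Scheme.IdealSheafData.range_subschemeι, hJ, Groth.L21.CurveAdj.coe_support_IC]
    exact subset_closure rfl
  have hs : η' ∈ CohB1.genLocus _ s := by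
    show η' ∈ CohB1.genLocus _ (Groth.L18.Ample.pullHom J.subschemeι v)
    rw [Groth.L18.Ample.genLocus_pullHom J.subschemeι hR v]
    show J.subschemeι η' ∈ CohB1.genLocus R v
    rw [hη']; exact hηv
  have hs0 : s ≠ 0 := fun h0 => by
    have h2 := (Groth.L21.CurveAdj.mem_genLocus_iff' hRJ _ _).1 hs
    obtain ⟨en, hen⟩ := Groth.L21.RR.exists_frame_stalk hRJ η'
    obtain ⟨a, ha⟩ := h2 en
    rw [h0] at ha
    have he0 : en = 0 := ha.symm.trans (by rw [st, Functor.map_zero]; rfl)
    exact one_ne_zero (hen.1 (show (1 : J.subscheme.presheaf.stalk η') • en =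
      (0 : J.subscheme.presheaf.stalk η') • en by rw [he0, smul_zero, smul_zero]))
  have hRdeg : 0 ≤ Curv2.deg k J.subscheme ((Scheme.Modules.pullback J.subschemeι).obj R) 1 := by
    rw [Groth.L21.RR.deg_eq_h0_cokernel k hdJ hRJ hs0]
    exact Int.natCast_nonneg _
  have hQJ := Groth.L18.Ample.isInvertible_pullback J.subschemeι hQi
  have h1 := Groth.L22.CurveDeg.deg_tensor_locFree k hdJ
    (Groth.L12.FinCov.isFinLocFreeOfRank_one_of_isInvertible hQJ)
    (Groth.L12.FinCov.isFinLocFreeOfRank_one_of_isInvertible hRJ)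
  rw [mul_one, Groth.L21.RR.deg_congr k (Groth.L29.DC.PullTensor.pullTensor J.subschemeι Q R ≪≫
    (Scheme.Modules.pullback J.subschemeι).mapIso e ≪≫ Groth.L29.LocFree.pullbackUnitIso J.subschemeι),
    Groth.L22.CurveDeg.deg_structure] at h1
  change 0 < Curv2.deg k J.subscheme ((Scheme.Modules.pullback J.subschemeι).obj Q) 1 at hpos
  push_cast at h1
  linarith

variable [IsAlgClosed k] {X : Scheme.{u}} [X.Over (Spec (CommRingCat.of k))]
  [IsProper (X ↘ Spec (CommRingCat.of k))] [ConnectedSpace X]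

set_option maxHeartbeats 1600000 in
/-- With ample dualizing module there are no vector fields. -/
theorem hom_omega_eq_zero (hdim : topologicalKrullDim X = 1) (hnod : Curv2.AtWorstNodal k X) {w : X.Modules}
    {t : Coh.HH X w 1 →ₗ[k] k} (hwt : Canon.IsRDualOver k X 1 w t) (hw : PicF.IsInvertible w)
    (hamp : CohB1.IsAmple w) (θ : Omega.sheaf (X ↘ Spec (CommRingCat.of k)) ⟶ Coh.structureModule X) :
    θ = 0 := by
  obtain ⟨Y, π, U, hS, hsm, hdY⟩ := exists_setting k hdim hnod
  haveI := hS.finite; haveI := hS.reduced; haveI := hS.noetherian; haveI := hS.iso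
  letI : Y.Over (Spec (CommRingCat.of k)) := ⟨π ≫ (X ↘ Spec (CommRingCat.of k))⟩
  haveI : IsProper (Y ↘ Spec (CommRingCat.of k)) :=
    inferInstanceAs (IsProper (π ≫ (X ↘ Spec (CommRingCat.of k))))
  haveI : Smooth (π ≫ (X ↘ Spec (CommRingCat.of k))) := hsm
  haveI := Groth.L21.RR.isNoetherian_of_proper (X := X) k
  haveI := Groth.L21.RR.isNoetherian_of_proper (X := Y) k
  haveI : X.IsSeparated := ⟨by rw [← Limits.terminal.comp_from (X ↘ Spec (CommRingCat.of k))]; infer_instance⟩
  haveI := Groth.L21.NormRed.isReduced_of_normal hS.hnorm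
  have hgen : ∀ x : X, ∃ v, ¬ IsClosed ({v} : Set X) ∧ v ⤳ x :=
    Groth.L21.CurveDual.exists_nonclosed_gen hdim
  haveI hsr : SmoothOfRelativeDimension 1 (π ≫ (X ↘ Spec (CommRingCat.of k))) :=
    Groth.L05.HypBertini.smoothOfRelativeDimension_of_stalks (π ≫ (X ↘ Spec (CommRingCat.of k))) 1
      (dim_stalk hS hdY hgen)
  haveI : SmoothOfRelativeDimension 1 (Y ↘ Spec (CommRingCat.of k)) := hsr
  have hgenY : ∀ z : Y, ∃ v, ¬ IsClosed ({v} : Set Y) ∧ v ⤳ z := fun z => by
    by_cases hz : IsClosed ({z} : Set Y)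
    · obtain ⟨v, hv, hvz⟩ := gen_normalization hS hgen z hz
      exact ⟨v, fun hc => hv (hvz.mem_closed hc rfl).symm, hvz⟩
    · exact ⟨z, hz, specializes_rfl⟩
  let ΩY := Omega.sheaf (π ≫ (X ↘ Spec (CommRingCat.of k)))
  let ΩX := Omega.sheaf (X ↘ Spec (CommRingCat.of k))
  have hΩY : PicF.IsInvertible ΩY := Groth.L21.CurveRD.isInvertible_omega (π ≫ (X ↘ Spec (CommRingCat.of k)))
  have hYc : Coh.IsCoh ΩY := Groth.L15.OmegaCoh.isCoh_omega _
  let Q := (Scheme.Modules.pullback π).obj w
  have hQi : PicF.IsInvertible Q := Groth.L18.Ample.isInvertible_pullback π hw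
  -- on the normalisation
  obtain ⟨wY, tY, hY, ⟨eY⟩⟩ := exists_iso_omega_dual k hdY (Y := Y)
  let M := CohB1.tensorMod Q ΩY
  have hMc : Coh.IsCoh M :=
    Groth.L22.CurveDeg.isCoh_tensor_locFree (Groth.L12.FinCov.isFinLocFreeOfRank_one_of_isInvertible hQi) hYc
  have hM1 : h k 1 M = 0 := by
    have hz : ∀ φ : M ⟶ wY, φ = 0 := fun φ => by
      have := hom_tensor_eq_zero hΩY (fun ψ : Q ⟶ Coh.structureModule Y => hom_eq_zero_of_ample (k := k) hdY hgenY hQi
        (Groth.L18.Ample.isAmple_pullback_of_isAffineHom π hamp) ψ) (φ ≫ eY.hom)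
      rw [← cancel_mono eY.hom, this, zero_comp]
    haveI : Subsingleton (M ⟶ wY) := subsingleton_of_forall_eq 0 hz
    rw [← Groth.L21.CurveDual.finrank_hom hY M hMc.1]
    exact Module.finrank_zero_of_subsingleton
  -- back on the curve
  obtain ⟨β, hβ⟩ := exists_beta (X ↘ Spec (CommRingCat.of k)) π
  haveI : Epi β := (Groth.L21.Mod.epi_iff_stalk_surjective β).2 fun x => by
    by_cases hn : Curv2.IsNode k X x
    · exact (stalk_at_node hβ hS hdY hn).1
    · exact (bijective_stalk_of_mem hβ hS ((hS.hU x).2 hn)).2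
  let P := (Scheme.Modules.pushforward π).obj ΩY
  have hK : SuppClosed (kernel β) := fun x hx =>
    Groth.L21.RedCurve.subsingleton_stalk_kernel β
      (bijective_stalk_of_mem hβ hS ((hS.hU x).2 fun hn => hx hn.1)).1
  have hwf := Groth.L16.Existence.isFinLocFree_of_isInvertible hw
  haveI := Groth.L17.ProjFormula.isIso_θ π w ΩY hwf
  have hP1 : h k 1 (CohB1.tensorMod P w) = 0 := by
    rw [Groth.L21.RR.h_congr k (tensorComm P w ≪≫ asIso (Groth.L17.ClosedPush.θ π ΩY w)) 1]
    haveI : Coh.IsQCoh M := hMc.1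
    exact (Groth.L21.P1.h_push_affine k π rfl M 1).trans hM1
  have hPc : Coh.IsCoh (CohB1.tensorMod w P) := Groth.L22.CurveDeg.isCoh_tensor_locFree
    (Groth.L12.FinCov.isFinLocFreeOfRank_one_of_isInvertible hw)
    (Groth.L07.PrinParts.isCoh_pushforward_finite π hYc)
  have hPz : ∀ ψ : CohB1.tensorMod P w ⟶ w, ψ = 0 := fun ψ => by
    have hz : ∀ φ : CohB1.tensorMod w P ⟶ w, φ = 0 := fun φ => by
      have hfr : Module.finrank k (CohB1.tensorMod w P ⟶ w) = 0 := by
        rw [Groth.L21.CurveDual.finrank_hom hwt _ hPc.1, Groth.L21.RR.h_congr k (tensorComm w P) 1, hP1]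
      haveI := Groth.L21.RR.finite_HH' k hPc 1
      haveI : Module.Finite k (CohB1.tensorMod w P ⟶ w) :=
        Module.Finite.equiv (Groth.L21.CurveDual.homEquiv hwt _ hPc.1).symm
      haveI := Module.finrank_zero_iff.1 hfr
      exact Subsingleton.elim _ _
    rw [← cancel_epi (tensorComm w P).hom, comp_zero]
    exact hz _
  -- the torsion maps to zero
  have hθK : kernel.ι β ≫ θ = 0 := by
    have hKq : Coh.IsQCoh (kernel β) := (Groth.L16.CohKernel.isCoh_kernel_cokernel
      (Groth.L15.OmegaCoh.isCoh_omega _) (Groth.L07.PrinParts.isCoh_pushforward_finite π hYc) β).1.1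
    refine eq_zero_of_tensor hw (fun φ => ?_) _
    haveI := hKq
    haveI : Coh.IsQCoh w := (Groth.L16.ProperFinite.isCoh_of_isInvertible hw).1
    exact Groth.L21.CurveDual.eq_zero_of_suppClosed hwt (Groth.L00.Tensor.isQCoh_tensorMod _ _) (fun x hx => by
      haveI : Subsingleton ((Groth.L00.Stk.F X x).obj (CohB1.tensorMod w (kernel β))) :=
        Groth.L21.RR.suppClosed_tensor hw hK x hx
      exact ((Groth.L00.Stk.F X x).mapIso (tensorComm w (kernel β))).toLinearEquiv.symm.toEquiv.subsingleton) φ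
  let hk' := (ShortComplex.mk (kernel.ι β) β (kernel.condition β))
  have hex : hk'.Exact := ShortComplex.exact_kernel β
  haveI : Epi hk'.g := inferInstanceAs (Epi β)
  obtain ⟨ψ, hψ⟩ : ∃ ψ : P ⟶ Coh.structureModule X, β ≫ ψ = θ := ⟨_, hex.g_desc θ hθK⟩
  rw [← hψ, eq_zero_of_tensor hw hPz ψ, comp_zero]

end Groth.L21.NodalExt
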